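import Cfsg.Agent.H14.GTwoSquare.Parab

/-!
# An irreducible Levi element centralises nothing in the two radicals
-/

set_option autoImplicit false
set_option linter.unusedSectionVars false
set_option linter.unusedSimpArgs false

namespace Cfsg.Agent.H14.GTwoSquare

open Cfsg.Lie (zornMul dot3 cross3)
open Cfsg.Agent.H55.Cover.GTwo (oct up dn oct_eta up_oct dn_oct zorn_oct phi psi phi_oct psi_oct slAct slAct_oct)
open Cfsg.Agent.H14.GTwoOrd
open scoped Matrix

variable {F : Type*} [Field F]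

local notation "G₂" => Cfsg.Lie.G2 F
local notation "V8" => (Fin 8 → F)

variable {T D : F} {N₀ : GL (Fin 2) F}

theorem inv_comp (h0 : (N₀ : Matrix (Fin 2) (Fin 2) F) = comp T D) (hD : D ≠ 0) :
    ((N₀⁻¹ : GL (Fin 2) F) : Matrix (Fin 2) (Fin 2) F) = !![T / D, 1; -1 / D, 0] := by
  refine (eq_comm.1 ?_)
  refine Units.eq_inv_of_mul_eq_one_right ?_
  rw [h0]
  ext i j; fin_cases i <;> fin_cases j <;> simp [comp, Matrix.mul_apply, Fin.sum_univ_two] <;> field_simp <;> ring

theorem fixed_eq (hI : Irred T D) (hD1 : D ≠ 1) (h0 : (N₀ : Matrix (Fin 2) (Fin 2) F) = comp T D) {z : V8}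
    (hz : ap (lg N₀) z = z) : up z = 0 ∧ dn z = 0 := by
  have hD := hI.ne_zero
  rw [← oct_eta z, lg_oct] at hz
  obtain ⟨-, hA, hB, -⟩ := oct_inj hz
  have a0 := congrFun hA 0; have a1 := congrFun hA 1; have a2 := congrFun hA 2
  have b0 := congrFun hB 0; have b1 := congrFun hB 1; have b2 := congrFun hB 2
  simp [leviMat, h0, inv_comp h0 hD, comp, Matrix.mulVec, dotProduct, Fin.sum_univ_three, Matrix.det_fin_two,
    -Matrix.coe_units_inv] at a0 a1 a2 b0 b1 b2
  have h1 := hI 1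
  have A2 : up z 2 = up z 1 := a2.symm
  have A1 : up z 1 = 0 := by
    rw [A2] at a1
    field_simp at a1
    exact (mul_eq_zero.1 (show (1 * 1 - T * 1 + D) * up z 1 = 0 by linear_combination -a1)).resolve_left h1
  have B2 : dn z 2 = dn z 1 + T * dn z 2 := b2.symm
  have B1 : dn z 1 = -(D * dn z 2) := b1.symm
  have B2' : dn z 2 = 0 :=
    (mul_eq_zero.1 (show (1 * 1 - T * 1 + D) * dn z 2 = 0 by linear_combination B2 + B1)).resolve_left h1
  have hB0 : dn z 0 = 0 := by
    field_simp at b0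
    exact (mul_eq_zero.1 (show (D - 1) * dn z 0 = 0 by linear_combination -b0)).resolve_left (sub_ne_zero.2 hD1)
  have hA0 : up z 0 = 0 :=
    (mul_eq_zero.1 (show (D - 1) * up z 0 = 0 by linear_combination a0)).resolve_left (sub_ne_zero.2 hD1)
  constructor <;> funext i <;> fin_cases i <;> simp [A1, A2, B1, B2', hB0, hA0]

/-- An automorphism commuting with the Levi element and separating the idempotents lies in `SL₃`. -/
theorem exists_sl_of_comm (hI : Irred T D) (hD1 : D ≠ 1) (h0 : (N₀ : Matrix (Fin 2) (Fin 2) F) = comp T D)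
    {h : G₂} (hc : Commute h (lg N₀))
    (hne : ap h eP ≠ one8 - eP) :
    ∃ P : Matrix.SpecialLinearGroup (Fin 3) F, slG P = h ∧ P * levi N₀ = levi N₀ * P := by
  have hfix : ap (lg N₀) eP = eP := by
    rw [eP, lg_oct]
    congr 1 <;> simp
  have hz : ap (lg N₀) (ap h eP) = ap h eP := by rw [← ap_mul_apply, ← hc.eq, ap_mul_apply, hfix]
  obtain ⟨hu, hd⟩ := fixed_eq hI hD1 h0 hz
  have e : ap h eP = oct (ap h eP 0) 0 0 (ap h eP 7) := by
    conv_lhs => rw [← oct_eta (ap h eP), hu, hd]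
  have hn := nm_ap h eP
  have ht := tr_ap h eP
  rw [e, nm_oct, nm_eP] at hn
  rw [e, tr_oct, tr_eP] at ht
  have hP : ap h eP = eP := by
    rcases mul_eq_zero.1 (show ap h eP 0 * ap h eP 7 = 0 by simpa [dot3] using hn) with z | z
    · refine absurd ?_ hne
      rw [e, z, show ap h eP 7 = 1 by linear_combination ht - z]
      funext i; fin_cases i <;> simp [oct, one8, eP]
    · rw [e, z, show ap h eP 0 = 1 by linear_combination ht - z]; rfl
  obtain ⟨P, hPe⟩ := exists_slG_of_fix hP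
  refine ⟨P, hPe, slG_injective ?_⟩
  rw [map_mul, map_mul, hPe]
  exact hc.eq

theorem eq_one_of_comm_Qp (hI : Irred T D) (hD1 : D ≠ 1) (h0 : (N₀ : Matrix (Fin 2) (Fin 2) F) = comp T D)
    {h : G₂} (hq : h ∈ (Qp : Subgroup G₂)) (hc : Commute h (lg N₀)) : h = 1 := by
  obtain ⟨P, rfl, hP⟩ := exists_sl_of_comm hI hD1 h0 hc (fun e => by
    have h1 := congrArg (ap h) (show zornMul eP (uv 0) = uv (0 : Fin 3) by
      rw [eP, uv, zorn_oct]; funext i; fin_cases i <;> simp [oct, dot3, cross3])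
    rw [ap_zorn, hq.1, e] at h1
    have h2 := congrFun h1 1
    simp [one8, eP, uv, oct, zornMul, dot3, cross3, Cfsg.Lie.zA, Cfsg.Lie.zB] at h2)
  have hD := hI.ne_zero
  -- the inverse matrix `M`
  set M : Matrix (Fin 3) (Fin 3) F := ((P⁻¹ : Matrix.SpecialLinearGroup (Fin 3) F) : Matrix (Fin 3) (Fin 3) F)
    with hM
  have hadj : (P : Matrix (Fin 3) (Fin 3) F).adjugate = M := (Matrix.SpecialLinearGroup.coe_inv P).symm
  obtain ⟨a, ha⟩ := hq.2 0
  obtain ⟨b, hb⟩ := hq.2 1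
  simp only [Matrix.cons_val_zero, Matrix.cons_val_one, dv, uv, ap_slG_oct, hadj, oct_smul, oct_add] at ha hb
  obtain ⟨-, -, ha, -⟩ := oct_inj ha
  obtain ⟨-, -, hb, -⟩ := oct_inj hb
  have r : ∀ j, M 1 j = (Pi.single 1 1 : Fin 3 → F) j ∧ M 2 j = (Pi.single 2 1 : Fin 3 → F) j := fun j =>
    ⟨by simpa using congrFun ha j, by simpa using congrFun hb j⟩
  have hdet : M.det = 1 := (P⁻¹).2
  have hcomm : P⁻¹ * levi N₀⁻¹ = levi N₀⁻¹ * P⁻¹ := by
    rw [map_inv, ← mul_inv_rev, ← mul_inv_rev, hP]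
  have hm := congrArg (fun Z : Matrix.SpecialLinearGroup (Fin 3) F => (Z : Matrix (Fin 3) (Fin 3) F)) hcomm
  simp only [Matrix.SpecialLinearGroup.coe_mul] at hm
  change M * leviMat N₀⁻¹ = leviMat N₀⁻¹ * M at hm
  have r0 := r 0; have r1 := r 1; have r2 := r 2
  simp at r0 r1 r2
  have m0 : M 0 0 = 1 := by simpa [Matrix.det_fin_three, r0, r1, r2] using hdet
  have c1 := congrFun (congrFun hm 0) 1
  have c2 := congrFun (congrFun hm 0) 2
  simp [leviMat, h0, inv_comp h0 hD, comp, Matrix.mul_apply, Fin.sum_univ_three, Matrix.det_fin_two,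
    -Matrix.coe_units_inv, r0, r1, r2] at c1 c2
  field_simp at c1 c2
  have m2 : M 0 2 = 0 := by
    refine (mul_eq_zero.1 (?_ : ((1 / D) * (1 / D) - T * (1 / D) + D) * M 0 2 = 0)).resolve_left (hI (1 / D))
    field_simp
    linear_combination D * c1 - c2
  have m1 : M 0 1 = 0 := by
    rw [m2] at c1 c2
    simp [hD] at c1 c2
    first | exact c1 | exact c2
  have hM1 : M = 1 := by
    ext i j; fin_cases i <;> fin_cases j <;> simp [r0, r1, r2, m0, m1, m2]
  have : P⁻¹ = 1 := Subtype.ext hM1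
  rw [inv_eq_one.1 this, map_one]

theorem eq_one_of_comm_Qm (hI : Irred T D) (hD1 : D ≠ 1) (h0 : (N₀ : Matrix (Fin 2) (Fin 2) F) = comp T D)
    {h : G₂} (hq : h ∈ (Qm : Subgroup G₂)) (hc : Commute h (lg N₀)) : h = 1 := by
  obtain ⟨P, rfl, hP⟩ := exists_sl_of_comm hI hD1 h0 hc (fun e => by
    have h1 := congrArg (ap h) (show zornMul (dv (F := F) 0) eP = dv (0 : Fin 3) by
      rw [eP, dv, zorn_oct]; funext i; fin_cases i <;> simp [oct, dot3, cross3])
    rw [ap_zorn, hq.1, e] at h1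
    have h2 := congrFun h1 4
    simp [one8, eP, dv, oct, zornMul, dot3, cross3, Cfsg.Lie.zA, Cfsg.Lie.zB] at h2)
  have hD := hI.ne_zero
  obtain ⟨a, ha⟩ := hq.2 0
  obtain ⟨b, hb⟩ := hq.2 1
  simp only [Matrix.cons_val_zero, Matrix.cons_val_one, dv, uv, ap_slG_oct, oct_smul, oct_add] at ha hb
  obtain ⟨-, ha, -, -⟩ := oct_inj ha
  obtain ⟨-, hb, -, -⟩ := oct_inj hb
  set M : Matrix (Fin 3) (Fin 3) F := (P : Matrix (Fin 3) (Fin 3) F) with hM
  have r : ∀ j, M j 1 = (Pi.single 1 1 : Fin 3 → F) j ∧ M j 2 = (Pi.single 2 1 : Fin 3 → F) j := fun j =>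
    ⟨by simpa using congrFun ha j, by simpa using congrFun hb j⟩
  have hdet : M.det = 1 := P.2
  have hcomm : P * levi N₀⁻¹ = levi N₀⁻¹ * P := by
    rw [map_inv]; exact (Commute.inv_right hP).eq
  have hm := congrArg (fun Z : Matrix.SpecialLinearGroup (Fin 3) F => (Z : Matrix (Fin 3) (Fin 3) F)) hcomm
  simp only [Matrix.SpecialLinearGroup.coe_mul] at hm
  change M * leviMat N₀⁻¹ = leviMat N₀⁻¹ * M at hm
  have r0 := r 0; have r1 := r 1; have r2 := r 2
  simp at r0 r1 r2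
  have m0 : M 0 0 = 1 := by simpa [Matrix.det_fin_three, r0, r1, r2] using hdet
  have c1 := congrFun (congrFun hm 1) 0
  have c2 := congrFun (congrFun hm 2) 0
  simp [leviMat, h0, inv_comp h0 hD, comp, Matrix.mul_apply, Fin.sum_univ_three, Matrix.det_fin_two,
    -Matrix.coe_units_inv, r0, r1, r2] at c1 c2
  field_simp at c1 c2
  have m1 : M 1 0 = 0 := by
    refine (mul_eq_zero.1 (?_ : ((1 / D) * (1 / D) - T * (1 / D) + D) * M 1 0 = 0)).resolve_left (hI (1 / D))
    field_simp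
    linear_combination D * c2 + (1 - D * T) * c1
  have m2 : M 2 0 = 0 := by
    rw [m1] at c1 c2
    simp [hD] at c1 c2
    first | exact c1 | exact c2
  have hM1 : M = 1 := by
    ext i j; fin_cases i <;> fin_cases j <;> simp [r0, r1, r2, m0, m1, m2]
  have : P = 1 := Subtype.ext hM1
  rw [this, map_one]

variable [Finite F]

/-- An element without fixed points on a normalised subgroup fuses its coset. -/
theorem isConj_of_free {G : Type*} [Group G] [Finite G] (Q : Subgroup G) (y : G)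
    (hn : ∀ w ∈ Q, y * w * y⁻¹ ∈ Q) (hf : ∀ w ∈ Q, Commute w y → w = 1) {h : G} (hh : h ∈ Q) :
    IsConj y (h * y) ∧ IsConj y (y * h) := by
  let φ : Q → Q := fun w => ⟨(w : G) * (y * (w : G)⁻¹ * y⁻¹), mul_mem w.2 (hn _ (inv_mem w.2))⟩
  have hinj : Function.Injective φ := by
    intro a b e
    have e' : (a : G) * (y * (a : G)⁻¹ * y⁻¹) = (b : G) * (y * (b : G)⁻¹ * y⁻¹) := congrArg Subtype.val e
    have hc : Commute ((b : G)⁻¹ * a) y := by
      show (b : G)⁻¹ * a * y = y * ((b : G)⁻¹ * a)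
      calc (b : G)⁻¹ * a * y = (b : G)⁻¹ * ((a : G) * (y * (a : G)⁻¹ * y⁻¹)) * y * a := by group
        _ = (b : G)⁻¹ * ((b : G) * (y * (b : G)⁻¹ * y⁻¹)) * y * a := by rw [e']
        _ = y * ((b : G)⁻¹ * a) := by group
    exact Subtype.ext (inv_mul_eq_one.1 (hf _ (mul_mem (inv_mem b.2) a.2) hc)).symm
  have hs := Finite.surjective_of_injective hinj
  have left : ∀ k ∈ Q, IsConj y (k * y) := by
    intro k hk
    obtain ⟨w, hw⟩ := hs ⟨k, hk⟩
    have e : (w : G) * (y * (w : G)⁻¹ * y⁻¹) = k := congrArg Subtype.val hw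
    exact isConj_iff.2 ⟨w, by rw [← e]; group⟩
  refine ⟨left h hh, ?_⟩
  have := left _ (hn h hh)
  rwa [show y * h * y⁻¹ * y = y * h by group] at this

theorem finite_G2 : Finite G₂ := inferInstance

/-- Every conjugate of the Levi element fuses its cosets of both radicals. -/
theorem isConj_lg (hI : Irred T D) (hD1 : D ≠ 1) (h0 : (N₀ : Matrix (Fin 2) (Fin 2) F) = comp T D)
    (S : GL (Fin 2) F) :
    (∀ v ∈ (Qm : Subgroup G₂), IsConj (lg N₀) (v * lg (S * N₀ * S⁻¹))) ∧
    (∀ u ∈ (Qp : Subgroup G₂), IsConj (lg N₀) (lg (S * N₀ * S⁻¹) * u)) := by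
  have hc : IsConj (lg N₀) (lg (S * N₀ * S⁻¹)) := isConj_iff.2 ⟨lg S, by simp⟩
  have hfix : ∀ (Q : Subgroup G₂), (∀ w ∈ Q, (lg S)⁻¹ * w * lg S ∈ Q) →
      (∀ w ∈ Q, Commute w (lg N₀) → w = 1) → ∀ w ∈ Q, Commute w (lg (S * N₀ * S⁻¹)) → w = 1 := by
    intro Q hn hf w hw hcw
    have h := hf _ (hn w hw) (by
      show _ = _
      have e := hcw.eq
      rw [map_mul, map_mul, map_inv] at e
      calc (lg S)⁻¹ * w * lg S * lg N₀ = (lg S)⁻¹ * (w * (lg S * lg N₀ * (lg S)⁻¹)) * lg S := by group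
        _ = (lg S)⁻¹ * (lg S * lg N₀ * (lg S)⁻¹ * w) * lg S := by rw [e]
        _ = lg N₀ * ((lg S)⁻¹ * w * lg S) := by group)
    calc w = lg S * ((lg S)⁻¹ * w * lg S) * (lg S)⁻¹ := by group
      _ = 1 := by rw [h]; group
  constructor
  · intro v hv
    refine hc.trans (isConj_of_free _ _ (fun w hw => lg_conj_Qm _ hw)
      (hfix _ (fun w hw => ?_) fun w hw => eq_one_of_comm_Qm hI hD1 h0 hw) hv).1
    simpa using lg_conj_Qm S⁻¹ hw
  · intro u hu
    refine hc.trans (isConj_of_free _ _ (fun w hw => lg_conj_Qp _ hw)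
      (hfix _ (fun w hw => ?_) fun w hw => eq_one_of_comm_Qp hI hD1 h0 hw) hu).2
    simpa using lg_conj_Qp S⁻¹ hw

/-- The Levi element has order prime to the characteristic. -/
theorem not_dvd_orderOf (p : ℕ) [Fact p.Prime] [CharP F p] (hI : Irred T D)
    (h0 : (N₀ : Matrix (Fin 2) (Fin 2) F) = comp T D) : ¬ p ∣ orderOf (lg N₀) := by
  intro h
  have hp : p ∣ orderOf N₀ := h.trans (orderOf_map_dvd lg N₀)
  set y := N₀ ^ (orderOf N₀ / p) with hy
  have ho : orderOf y = p := orderOf_pow_orderOf_div (orderOf_pos N₀).ne' hp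
  set M : Matrix (Fin 2) (Fin 2) F := (y : Matrix (Fin 2) (Fin 2) F) - 1 with hM
  have hpow : M ^ p = 0 := by
    rw [hM, sub_pow_char_of_commute p (Commute.one_right _), one_pow, ← Units.val_pow_eq_pow_val, ← ho,
      pow_orderOf_eq_one, Units.val_one, sub_self]
  have hdet : M.det = 0 := by
    have : M.det ^ p = 0 := by rw [← Matrix.det_pow, hpow, Matrix.det_zero]
    exact (pow_eq_zero_iff (Fact.out : p.Prime).ne_zero).1 this
  have hne : M ≠ 0 := by
    intro e
    have : y = 1 := Units.ext (sub_eq_zero.1 e)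
    rw [this, orderOf_one] at ho
    exact (Fact.out : p.Prime).one_lt.ne ho
  have hc : M * comp T D = comp T D * M := by
    rw [hM, sub_mul, mul_sub, one_mul, mul_one, ← h0]
    congr 1
    rw [← Units.val_mul, ← Units.val_mul, hy, (Commute.pow_self N₀ _).eq]
  have c00 := congrFun (congrFun hc 0) 0
  have c01 := congrFun (congrFun hc 0) 1
  simp [comp, Matrix.mul_apply, Fin.sum_univ_two] at c00 c01
  rw [Matrix.det_fin_two] at hdet
  by_cases hb : M 1 0 = 0
  · have h01 : M 0 1 = 0 := by rw [c00, hb]; ring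
    have h11 : M 1 1 = M 0 0 := by
      rw [h01] at c01
      exact mul_left_cancel₀ hI.ne_zero (by linear_combination c01)
    rw [h01, hb, h11] at hdet
    have h00 : M 0 0 = 0 := by simpa using hdet
    exact hne (by ext i j; fin_cases i <;> fin_cases j <;> simp [h00, h01, hb, h11])
  · apply hI (-(M 0 0) / M 1 0)
    field_simp
    refine mul_left_cancel₀ hI.ne_zero ?_
    linear_combination D * hdet - M 0 0 * c01 + (T * M 0 0 + D * M 1 0) * c00

end Cfsg.Agent.H14.GTwoSquare
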