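import Cfsg.Agent.H14.GTwoSquare.Frames
import Mathlib.Data.ZMod.Basic
import Mathlib.Algebra.Field.ZMod

/-!
# The choice of the second point

For a normalised automorphism the Levi matrix of the decomposition can be made non-scalar with trace different from `2D`.
-/

set_option autoImplicit false
set_option linter.unusedSectionVars false
set_option linter.unusedSimpArgs false

namespace Cfsg.Agent.H14.GTwoSquare

open Cfsg.Lie (zornMul dot3 cross3)
open Cfsg.Agent.H55.Cover.GTwo (oct up dn oct_eta up_oct dn_oct zorn_oct phi psi phi_oct psi_oct slAct slAct_oct)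
open Cfsg.Agent.H14.GTwoOrd
open scoped Matrix

variable {F : Type*} [Field F]

local notation "G₂" => Cfsg.Lie.G2 F
local notation "V8" => (Fin 8 → F)

/-- The four entries of a good matrix. -/
def Good (D a b c d : F) : Prop := a + d ≠ 2 * D ∧ (b ≠ 0 ∨ c ≠ 0 ∨ a ≠ d)

/-- The bilinear form by coordinates. -/
theorem bil_eq (x y : V8) : bil x y = x 0 * y 7 + x 7 * y 0 - dot3 (up x) (dn y) - dot3 (up y) (dn x) := by
  conv_lhs => rw [← oct_eta x, ← oct_eta y, bil_oct]

/-- The coefficient formula. -/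
noncomputable def coef (g : G₂) (δ : F) (f : V8) (i j : Fin 2) : F :=
  -(bil (wvec f i) (ap g (![dv 1, dv 2] j)) +
    bil (wvec f i) (ap g (uv 0)) * bil f (ap g (![dv 1, dv 2] j)) / δ)

theorem kill_dv {g : G₂} (j : Fin 2) :
    tr (ap g (![dv 1, dv 2] j)) = 0 ∧ zornMul (ap g (uv 0)) (ap g (![dv 1, dv 2] j)) = 0 := by
  constructor
  · rw [tr_ap]; fin_cases j <;> simp [dv, tr_oct]
  · rw [← ap_zorn, show zornMul (uv 0) (![dv 1, dv 2] j) = (0 : V8) from ?_, map_zero]
    fin_cases j <;> simp only [Fin.zero_eta, Fin.mk_one, Matrix.cons_val_zero, Matrix.cons_val_one, dv, uv,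
        zorn_oct] <;>
      funext i <;> fin_cases i <;> simp [oct, dot3, cross3]

theorem prod_dv {g : G₂} : zornMul (ap g (dv 1)) (ap g (dv 2)) = -(ap g (uv 0)) := by
  rw [← ap_zorn, show zornMul (dv (F := F) 1) (dv 2) = -(uv (0 : Fin 3)) from ?_, map_neg]
  rw [dv, dv, zorn_oct, uv]
  funext i; fin_cases i <;> simp [oct, dot3, cross3]

/-- The case of a collinear image at distance two steps. -/
theorem choose_four {g : G₂} (hg : ap g (uv 0) = uv 1) {D : F} (hD : D ≠ 0) :
    ∃ f : V8, Pt f ∧ dn f 0 = 1 ∧ bil f (ap g (uv 0)) = -(D * D) ∧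
      Good D (coef g (D * D) f 0 0) (coef g (D * D) f 0 1) (coef g (D * D) f 1 0) (coef g (D * D) f 1 1) := by
  have shape : ∀ j : Fin 2, ∃ h a b : F, ap g (![dv 1, dv 2] j) = oct 0 ![0, h, 0] ![a, 0, b] 0 := by
    intro j
    obtain ⟨t, z⟩ := kill_dv (g := g) j
    set y := ap g (![dv 1, dv 2] j)
    refine ⟨up y 1, dn y 0, dn y 2, ?_⟩
    have t' : y 0 + y 7 = 0 := t
    rw [hg, ← oct_eta y, uv, zorn_oct, ← oct_zero] at z
    obtain ⟨z0, zA, zB, -⟩ := oct_inj z
    have A1 := congrFun zA 1; have B0 := congrFun zB 0; have B2 := congrFun zB 2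
    simp [dot3, cross3] at z0 A1 B0 B2
    conv_lhs => rw [← oct_eta y]
    congr 1
    · linear_combination t' - A1
    · funext i; fin_cases i <;> simp [B0, B2, neg_eq_zero]
    · funext i; fin_cases i <;> simp [z0]
  choose h a b hy using shape
  have hdet : a 0 * b 1 - b 0 * a 1 = -1 := by
    have e := prod_dv (g := g)
    have e0 := hy 0; have e1 := hy 1
    simp only [Matrix.cons_val_zero, Matrix.cons_val_one] at e0 e1
    rw [e0, e1, hg, zorn_oct] at e
    have e2 := congrFun e 2
    simp [oct, uv, dot3, cross3] at e2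
    linear_combination e2
  set δ := D * D with hδdef
  have hδ : δ ≠ 0 := mul_ne_zero hD hD
  let fv : F → F → V8 := fun w v => oct 0 ![-(w * v), 0, w] ![1, δ, v] 0
  have hc : ∀ w v j, coef g δ (fv w v) 0 j = (-δ - w ^ 3 * v / δ) * a j + w ^ 3 / δ * b j ∧
      coef g δ (fv w v) 1 j = -v * a j + b j := by
    intro w v j
    constructor <;>
    · simp only [coef, hg, hy, fv, wvec, up_oct, dn_oct]
      simp [bil, uv, dot3, oct, up, dn, Matrix.vecHead, Matrix.vecTail]
      all_goals (field_simp; ring)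
  have main : ∀ w v : F, Good D ((-δ - w ^ 3 * v / δ) * a 0 + w ^ 3 / δ * b 0)
      ((-δ - w ^ 3 * v / δ) * a 1 + w ^ 3 / δ * b 1) (-v * a 0 + b 0) (-v * a 1 + b 1) →
      ∃ f : V8, Pt f ∧ dn f 0 = 1 ∧ bil f (ap g (uv 0)) = -δ ∧
      Good D (coef g δ f 0 0) (coef g δ f 0 1) (coef g δ f 1 0) (coef g δ f 1 1) := by
    intro w v hgood
    refine ⟨fv w v, ⟨by simp [fv, tr_oct], by simp [fv, nm_oct, dot3, Matrix.vecHead, Matrix.vecTail]⟩,
      by simp [fv, dn_oct], ?_, ?_⟩
    · rw [hg]; simp [fv, uv, bil_oct, dot3]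
    · rw [(hc w v 0).1, (hc w v 0).2, (hc w v 1).1, (hc w v 1).2]; exact hgood
  by_cases h1 : a 1 = 0
  · have h0 : a 0 ≠ 0 := fun e => by simp [h1, e] at hdet
    have hb : b 1 ≠ 0 := fun e => by simp [h1, e] at hdet
    refine main 1 ((-δ * a 0 + b 0 / δ + b 1 - 2 * D - 1) * δ / a 0) ⟨fun e => ?_, Or.inl ?_⟩
    · rw [h1] at e
      simp at e
      field_simp at e
      exact one_ne_zero (mul_left_cancel₀ hδ (show δ * 1 = δ * 0 by linear_combination e))
    · simp [h1, hb, hδ]
  · refine main 0 ((-δ * a 0 + b 1 - 2 * D - 1) / a 1) ⟨fun e => ?_, Or.inl ?_⟩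
    · simp at e
      field_simp at e
      exact one_ne_zero (show (1 : F) = 0 by linear_combination e)
    · simp [h1, hδ]

variable [Fintype F]

/-- A quadratic and an affine condition leave a good parameter when there are four parameters. -/
theorem exists_good_param (h4 : 4 ≤ Fintype.card F) {s : F} (hs : s ≠ 0) (D A B C E : F) (hE : E ≠ 0) :
    ∃ t : F, s * A - t * C + (-t * B + (-1 + t * t / s) * E) ≠ 2 * D ∧ s * B - t * E ≠ 0 := by
  classical
  by_contra h
  push Not at h
  let R := Finset.univ.filter fun t : F => s * A - t * C + (-t * B + (-1 + t * t / s) * E) = 2 * D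
  let S := Finset.univ.filter fun t : F => s * B - t * E = 0
  have hR : R.card ≤ 2 := by
    by_contra hc
    push Not at hc
    obtain ⟨x, y, z, hx, hy, hz, hxy, hxz, hyz⟩ := Finset.two_lt_card_iff.1 hc
    simp [R] at hx hy hz
    field_simp at hx hy hz
    have e1 : (x - y) * ((x + y) * E - s * (C + B)) = 0 := by linear_combination hx - hy
    have e2 : (x - z) * ((x + z) * E - s * (C + B)) = 0 := by linear_combination hx - hz
    have f1 := (mul_eq_zero.1 e1).resolve_left (sub_ne_zero.2 hxy)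
    have f2 := (mul_eq_zero.1 e2).resolve_left (sub_ne_zero.2 hxz)
    have f3 : (y - z) * E = 0 := by linear_combination f1 - f2
    exact hE ((mul_eq_zero.1 f3).resolve_left (sub_ne_zero.2 hyz))
  have hS : S.card ≤ 1 := by
    refine Finset.card_le_one.2 fun x hx y hy => ?_
    simp [S] at hx hy
    exact mul_right_cancel₀ hE (by linear_combination hy - hx)
  have : (Finset.univ : Finset F) ⊆ R ∪ S := fun t _ => by
    by_cases ht : s * A - t * C + (-t * B + (-1 + t * t / s) * E) = 2 * D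
    · exact Finset.mem_union_left _ (Finset.mem_filter.2 ⟨Finset.mem_univ _, ht⟩)
    · simp [S, h t ht]
  have := (Finset.card_le_card this).trans (Finset.card_union_le R S)
  rw [Finset.card_univ] at this
  omega

/-- The two families over the prime field of order three. -/
def GoodThree {R : Type*} [CommRing R] (a b c d t : R) : Prop :=
  let s := -(a * d - b * c)
  ((s * a - t * c + (-t * b + (-1 + t * t * s) * d) ≠ 2 * -1) ∧
      (s * b - t * d ≠ 0 ∨ -t * a + (-1 + t * t * s) * c ≠ 0 ∨ s * a - t * c ≠ -t * b + (-1 + t * t * s) * d)) ∨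
    (((-1 + t * t * s) * a - t * c + (-t * b + s * d) ≠ 2 * -1) ∧
      ((-1 + t * t * s) * b - t * d ≠ 0 ∨ -t * a + s * c ≠ 0 ∨ (-1 + t * t * s) * a - t * c ≠ -t * b + s * d))

instance (a b c d t : ZMod 3) : Decidable (GoodThree a b c d t) := by unfold GoodThree; infer_instance

theorem good_three_aux :
    ∀ a b c d : ZMod 3, a * d - b * c ≠ 0 → (a ≠ 0 ∨ d ≠ 0) → ∃ t : ZMod 3, GoodThree a b c d t := by
  decide +kernel

theorem good_three (h3 : Fintype.card F = 3) (a b c d : F) (h : a * d - b * c ≠ 0) (hne : a ≠ 0 ∨ d ≠ 0) :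
    ∃ t : F, GoodThree a b c d t := by
  let φ : ZMod 3 ≃+* F := ZMod.ringEquivOfPrime F Nat.prime_three h3
  obtain ⟨a, rfl⟩ := φ.surjective a
  obtain ⟨b, rfl⟩ := φ.surjective b
  obtain ⟨c, rfl⟩ := φ.surjective c
  obtain ⟨d, rfl⟩ := φ.surjective d
  obtain ⟨t, ht⟩ := good_three_aux a b c d
    (by intro e; apply h; rw [← map_mul, ← map_mul, ← map_sub, e, map_zero]) (by simpa using hne)
  refine ⟨φ t, ?_⟩
  have e2 : (2 : F) = φ 2 := (map_ofNat φ 2).symm
  simp only [GoodThree] at ht ⊢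
  simp only [e2, ← map_one φ, ← map_zero φ, ← map_mul, ← map_neg, ← map_add, ← map_sub, ne_eq, φ.injective.eq_iff]
  exact ht

/-- The case of an opposite image. -/
theorem choose_six {g : G₂} {κ : F} (hκ : κ ≠ 0) (hg : ap g (uv 0) = κ • dv 0) {D : F} (hD : D ≠ 0) (hD1 : D ≠ 1)
    (h3 : 3 ≤ Fintype.card F) :
    ∃ f : V8, Pt f ∧ dn f 0 = 1 ∧ bil f (ap g (uv 0)) = -(D * D) ∧
      Good D (coef g (D * D) f 0 0) (coef g (D * D) f 0 1) (coef g (D * D) f 1 0) (coef g (D * D) f 1 1) := by
  have shape : ∀ j : Fin 2, ∃ h a b : F, ap g (![dv 1, dv 2] j) = oct 0 ![0, a, b] ![h, 0, 0] 0 := by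
    intro j
    obtain ⟨t, z⟩ := kill_dv (g := g) j
    set y := ap g (![dv 1, dv 2] j)
    refine ⟨dn y 0, up y 1, up y 2, ?_⟩
    have t' : y 0 + y 7 = 0 := t
    rw [hg, zorn_smul_left, smul_eq_zero] at z
    have z := z.resolve_left hκ
    rw [← oct_eta y, dv, zorn_oct, ← oct_zero] at z
    obtain ⟨-, zA, zB, zD⟩ := oct_inj z
    have A1 := congrFun zA 1; have A2 := congrFun zA 2; have B0 := congrFun zB 0
    simp [dot3, cross3] at A1 A2 B0 zD
    conv_lhs => rw [← oct_eta y]
    congr 1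
    · funext i; fin_cases i <;> simp [zD]
    · funext i; fin_cases i <;> simp [A1, A2]
    · linear_combination t' - B0
  choose h a b hy using shape
  have hdet : a 0 * b 1 - a 1 * b 0 = -κ := by
    have e := prod_dv (g := g)
    have e0 := hy 0; have e1 := hy 1
    simp only [Matrix.cons_val_zero, Matrix.cons_val_one] at e0 e1
    rw [e0, e1, hg, zorn_oct] at e
    have e2 := congrFun e 4
    simp [oct, dv, dot3, cross3] at e2
    linear_combination e2
  set δ := D * D with hδdef
  have hδ : δ ≠ 0 := mul_ne_zero hD hD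
  set s := δ / κ with hsdef
  have hs : s ≠ 0 := div_ne_zero hδ hκ
  have hκs : δ = κ * s := by rw [hsdef]; field_simp
  let fv : F → F → F → F → F → V8 := fun β U1 U2 V1 V2 => oct β ![s, U1, U2] ![1, V1, V2] (-β)
  have hc : ∀ β U1 U2 V1 V2 j,
      coef g δ (fv β U1 U2 V1 V2) 0 j =
        ((-(U2 * U2)) + (β * U2 + V1) * V1 / s) * a j + ((U1 * U2 - β) + (β * U2 + V1) * V2 / s) * b j ∧
      coef g δ (fv β U1 U2 V1 V2) 1 j =
        ((β + U1 * U2) + (-β * U1 + V2) * V1 / s) * a j + ((-(U1 * U1)) + (-β * U1 + V2) * V2 / s) * b j := by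
    intro β U1 U2 V1 V2 j
    rw [coef, coef, hg, hy, hκs]
    simp only [map_smul, smul_eq_mul]
    simp only [fv, wvec, dv]
    constructor <;>
    · simp [bil, dot3, oct, up, dn, Matrix.vecHead, Matrix.vecTail]
      field_simp
      ring
  have main : ∀ β U1 U2 V1 V2 : F, β * β + s + U1 * V1 + U2 * V2 = 0 →
      Good D (coef g δ (fv β U1 U2 V1 V2) 0 0) (coef g δ (fv β U1 U2 V1 V2) 0 1)
        (coef g δ (fv β U1 U2 V1 V2) 1 0) (coef g δ (fv β U1 U2 V1 V2) 1 1) →
      ∃ f : V8, Pt f ∧ dn f 0 = 1 ∧ bil f (ap g (uv 0)) = -δ ∧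
      Good D (coef g δ f 0 0) (coef g δ f 0 1) (coef g δ f 1 0) (coef g δ f 1 1) := by
    intro β U1 U2 V1 V2 he hgood
    refine ⟨_, ⟨by simp [fv, tr_oct], ?_⟩, by simp [fv, dn_oct], ?_, hgood⟩
    · simp [fv, nm_oct, dot3, Matrix.vecHead, Matrix.vecTail]; linear_combination -he
    · rw [hg, map_smul, hκs]; simp [fv, dv, bil_oct, dot3]
  -- the two families
  have famA : ∀ t, Good D (s * a 0 - t * b 0) (s * a 1 - t * b 1) (-t * a 0 + (-1 + t * t / s) * b 0)
      (-t * a 1 + (-1 + t * t / s) * b 1) → _ := fun t ht => main 0 1 0 (-s) t (by ring) (by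
    rw [(hc _ _ _ _ _ 0).1, (hc _ _ _ _ _ 0).2, (hc _ _ _ _ _ 1).1, (hc _ _ _ _ _ 1).2]
    convert ht using 1 <;> field_simp <;> ring)
  have famB : ∀ t, Good D ((-1 + t * t / s) * a 0 - t * b 0) ((-1 + t * t / s) * a 1 - t * b 1)
      (-t * a 0 + s * b 0) (-t * a 1 + s * b 1) → _ := fun t ht => main 0 0 1 t (-s) (by ring) (by
    rw [(hc _ _ _ _ _ 0).1, (hc _ _ _ _ _ 0).2, (hc _ _ _ _ _ 1).1, (hc _ _ _ _ _ 1).2]
    convert ht using 1 <;> field_simp <;> ring)
  by_cases hdiag : a 0 ≠ 0 ∨ b 1 ≠ 0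
  · by_cases h4 : 4 ≤ Fintype.card F
    · rcases hdiag with ha | hb
      · obtain ⟨t, t1, t2⟩ := exists_good_param h4 hs D (b 1) (b 0) (a 1) (a 0) ha
        exact famB t ⟨fun e => t1 (by linear_combination e), Or.inr (Or.inl fun e => t2 (by linear_combination e))⟩
      · obtain ⟨t, t1, t2⟩ := exists_good_param h4 hs D (a 0) (a 1) (b 0) (b 1) hb
        exact famA t ⟨fun e => t1 (by linear_combination e), Or.inl fun e => t2 (by linear_combination e)⟩
    · have hcard : Fintype.card F = 3 := by omega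
      have hsq : ∀ x : F, x ≠ 0 → x * x = 1 := fun x hx => by
        have := FiniteField.pow_card_sub_one_eq_one x hx
        rw [hcard] at this; linear_combination this
      have hDm : D = -1 := by
        rcases mul_self_eq_one_iff.1 (hsq D hD) with e | e
        · exact absurd e hD1
        · exact e
      have hsk : s = -(a 0 * b 1 - a 1 * b 0) := by
        rw [hdet, neg_neg, hsdef, hδdef, hsq D hD, eq_comm, eq_div_iff hκ]
        exact hsq κ hκ
      have hinv : ∀ x : F, x / s = x * s := fun x => by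
        rw [div_eq_iff hs, mul_assoc, hsq s hs, mul_one]
      obtain ⟨t, ht⟩ := good_three hcard (a 0) (a 1) (b 0) (b 1)
        (by rw [hdet]; exact neg_ne_zero.2 hκ) hdiag
      simp only [GoodThree, ← hsk] at ht
      rcases ht with ht | ht
      · exact famA t (by rw [Good, hinv, hDm]; exact ht)
      · exact famB t (by rw [Good, hinv, hDm]; exact ht)
  push Not at hdiag
  obtain ⟨ha, hb⟩ := hdiag
  have ha1 : a 1 ≠ 0 := fun e => hκ (by rw [ha, hb, e] at hdet; simpa using hdet.symm)
  have hb0 : b 0 ≠ 0 := fun e => hκ (by rw [ha, hb, e] at hdet; simpa using hdet.symm)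
  by_cases hsum : b 0 + a 1 = 0
  swap
  · -- affine trace
    refine famA (-(2 * D + 1) / (b 0 + a 1)) ⟨fun e => ?_, Or.inl ?_⟩
    · rw [ha, hb] at e
      field_simp at e
      exact one_ne_zero (mul_left_cancel₀ (mul_ne_zero hs (pow_ne_zero 2 hsum))
        (show s * (b 0 + a 1) ^ 2 * 1 = s * (b 0 + a 1) ^ 2 * 0 by linear_combination e))
    · simp [hb, hs, ha1]
  -- antisymmetric
  obtain ⟨β, hβ⟩ : ∃ β : F, β * (3 + β * β / s) * a 1 ≠ 2 * D := by
    by_cases h2 : (2 : F) = 0
    · obtain ⟨z, hz⟩ : ∃ z : F, z ≠ 0 ∧ z * z ≠ s := by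
        classical
        by_contra hall
        push Not at hall
        have : (Finset.univ.erase (0 : F)).card ≤ 1 := Finset.card_le_one.2 fun x hx y hy => by
          simp at hx hy
          have e : (x - y) * (x + y) = 0 := by linear_combination hall x hx - hall y hy
          rcases mul_eq_zero.1 e with e | e
          · exact sub_eq_zero.1 e
          · linear_combination e - y * h2
        rw [Finset.card_erase_of_mem (Finset.mem_univ _), Finset.card_univ] at this
        omega
      refine ⟨z, fun e => ?_⟩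
      field_simp at e
      have e' : z * (s + z * z) * a 1 = 0 := by linear_combination e + (D * s - z * s * a 1) * h2
      have : s + z * z ≠ 0 := fun e0 => hz.2 (by linear_combination -e0 + z * z * h2)
      exact mul_ne_zero (mul_ne_zero hz.1 this) ha1 e'
    · exact ⟨0, by simpa using (mul_ne_zero h2 hD).symm⟩
  have hb0' : b 0 = -(a 1) := by linear_combination hsum
  refine main β 1 0 (-(s + β * β)) 0 (by ring) ⟨fun e => hβ ?_, Or.inr (Or.inl fun e => ha1 ?_)⟩
  · rw [(hc _ _ _ _ _ 0).1, (hc _ _ _ _ _ 1).2, ha, hb, hb0'] at e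
    field_simp at e ⊢
    linear_combination e
  · rw [(hc _ _ _ _ _ 0).2, ha, hb0'] at e
    simpa using e

/-- A coefficient of trace condition is available for every non-trivial automorphism. -/
theorem exists_decomp {g : G₂} (hg : g ≠ 1) {D : F} (hD : D ≠ 0) (hD1 : D ≠ 1) (h3 : 3 ≤ Fintype.card F) :
    ∃ k : G₂, ∃ v ∈ (Qm : Subgroup G₂), ∃ u ∈ (Qp : Subgroup G₂), ∃ N : GL (Fin 2) F,
      k⁻¹ * g * k = v * lg N * u ∧ (N : Matrix (Fin 2) (Fin 2) F).det = D * D ∧
      (¬ ∃ c : F, (N : Matrix (Fin 2) (Fin 2) F) = c • 1) ∧ (N : Matrix (Fin 2) (Fin 2) F).trace ≠ 2 * D := by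
  obtain ⟨k, hk⟩ := normalise hg
  have hex : ∃ f : V8, Pt f ∧ dn f 0 = 1 ∧ bil f (ap (k * g * k⁻¹) (uv 0)) = -(D * D) ∧
      Good D (coef (k * g * k⁻¹) (D * D) f 0 0) (coef (k * g * k⁻¹) (D * D) f 0 1)
        (coef (k * g * k⁻¹) (D * D) f 1 0) (coef (k * g * k⁻¹) (D * D) f 1 1) := by
    rcases hk with ⟨κ, hκ, e⟩ | e
    · exact choose_six hκ e hD hD1 h3
    · exact choose_four e hD
  obtain ⟨f, hf, hf0, hfg, hgood⟩ := hex
  obtain ⟨m, v, hv, u, hu, N, e, hd, hN⟩ := decomp_at (mul_ne_zero hD hD) hf hf0 hfg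
  rw [coef, coef, coef, coef, ← hN, ← hN, ← hN, ← hN] at hgood
  refine ⟨k⁻¹ * m, v, hv, u, hu, N, by rw [← e]; group, hd, ?_, by rw [Matrix.trace_fin_two]; exact hgood.1⟩
  rintro ⟨c, hc⟩
  rcases hgood.2 with h | h | h <;> apply h <;> simp [hc]

/-- An irreducible `t² - t + D` with `D ≠ 1`. -/
theorem exists_irred (h3 : 3 ≤ Fintype.card F) : ∃ D : F, D ≠ 1 ∧ Irred 1 D := by
  classical
  by_contra h
  simp only [Irred, not_exists, not_and, not_forall, not_not, one_mul] at h
  let φ : F → F := fun z => z - z * z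
  have himg : Finset.univ.erase (1 : F) ⊆ Finset.univ.image φ := fun D hD => by
    simp at hD
    obtain ⟨z, hz⟩ := h D hD
    exact Finset.mem_image.2 ⟨z, Finset.mem_univ _, by simp only [φ]; linear_combination -hz⟩
  by_cases hex : ∃ a : F, a ≠ 0 ∧ a ≠ 1 ∧ a ≠ 1 - a
  · obtain ⟨a, a0, a1, a2⟩ := hex
    have hsub : Finset.univ.image φ ⊆ ((Finset.univ.erase (1 : F)).erase (1 - a)).image φ := by
      intro D hD
      obtain ⟨z, -, rfl⟩ := Finset.mem_image.1 hD
      by_cases z1 : z = 1
      · refine Finset.mem_image.2 ⟨0, ?_, by simp [φ, z1]⟩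
        simp only [Finset.mem_erase, Finset.mem_univ, and_true]
        exact ⟨fun e => a1 (by linear_combination e), zero_ne_one⟩
      · by_cases za : z = 1 - a
        · refine Finset.mem_image.2 ⟨a, ?_, by simp only [φ, za]; ring⟩
          simp only [Finset.mem_erase, Finset.mem_univ, and_true]
          exact ⟨a2, a1⟩
        · exact Finset.mem_image.2 ⟨z, by simp [z1, za], rfl⟩
    have c1 := Finset.card_le_card (himg.trans hsub)
    have c2 := Finset.card_image_le (f := φ) (s := (Finset.univ.erase (1 : F)).erase (1 - a))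
    have hm : (1 - a) ∈ Finset.univ.erase (1 : F) := by simp [sub_eq_self, a0]
    rw [Finset.card_erase_of_mem hm, Finset.card_erase_of_mem (Finset.mem_univ _), Finset.card_univ] at c2
    rw [Finset.card_erase_of_mem (Finset.mem_univ _), Finset.card_univ] at c1
    omega
  · push Not at hex
    obtain ⟨D, hD⟩ : ∃ D : F, D ≠ 0 ∧ D ≠ 1 := by
      obtain ⟨x, hx⟩ := Fintype.exists_ne_of_one_lt_card (by omega : 1 < Fintype.card F) (0 : F)
      by_contra hall
      push Not at hall
      have : (Finset.univ : Finset F) ⊆ {0, 1} := fun y _ => by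
        by_cases hy : y = 0
        · simp [hy]
        · simp [hall y hy]
      have := (Finset.card_le_card this).trans Finset.card_le_two
      rw [Finset.card_univ] at this; omega
    obtain ⟨z, hz⟩ := h D hD.2
    have e := hex D hD.1 hD.2
    by_cases z0 : z = 0
    · exact hD.1 (by rw [z0] at hz; linear_combination hz)
    by_cases z1 : z = 1
    · exact hD.1 (by rw [z1] at hz; linear_combination hz)
    have ez := hex z z0 z1
    have hzD : D = z := by linear_combination z * (e - ez) - (D - z) * ez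
    exact z0 (mul_self_eq_zero.1 (by rw [hzD] at hz; linear_combination hz))

end Cfsg.Agent.H14.GTwoSquare
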