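import Cfsg.Agent.H14.GTwoSquare.Parab

/-!
# Normalising a non-trivial automorphism, and the decomposition for a general second point

Every non-trivial automorphism has a conjugate mapping `u₀` to a multiple of `d₀` or to `u₁`.
-/

set_option autoImplicit false
set_option linter.unusedSectionVars false
set_option linter.unusedSimpArgs false

namespace Cfsg.Agent.H14.GTwoSquare

open Cfsg.Lie (zornMul dot3 cross3)
open Cfsg.Agent.H55.Cover.GTwo (oct up dn oct_eta up_oct dn_oct zorn_oct phi psi phi_oct psi_oct slAct slAct_oct)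
open Cfsg.Agent.H14.GTwoOrd
open scoped Matrix

variable {F : Type*} [Field F]

local notation "G₂" => Cfsg.Lie.G2 F
local notation "V8" => (Fin 8 → F)

/-- A singular point of trace zero. -/
def Pt (z : V8) : Prop := tr z = 0 ∧ nm z = 0

theorem Pt.map {z : V8} (h : Pt z) (g : G₂) : Pt (ap g z) := ⟨by rw [tr_ap, h.1], by rw [nm_ap, h.2]⟩

theorem Pt.smul {z : V8} (h : Pt z) (c : F) : Pt (c • z) := ⟨by simp [h.1], by simp [nm_smul, h.2]⟩

theorem pt_uv (i : Fin 3) : Pt (uv (F := F) i) := ⟨by simp [uv, tr_oct], by simp [uv, nm_oct, dot3]⟩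

theorem pt_dv (i : Fin 3) : Pt (dv (F := F) i) := ⟨by simp [dv, tr_oct], by simp [dv, nm_oct, dot3]⟩

theorem cross_eq_det (A C₁ C₂ : Fin 3 → F) :
    (Matrix.of fun i j => ![A, C₁, C₂] j i).det = dot3 A (cross3 C₁ C₂) := by
  simp [Matrix.det_fin_three, dot3, cross3]; ring

theorem exists_cross (B : Fin 3 → F) (hB : B ≠ 0) : ∃ C₁ C₂ : Fin 3 → F, cross3 C₁ C₂ = B := by
  by_cases h0 : B 0 = 0
  · by_cases h1 : B 1 = 0
    · refine ⟨![1, 0, 0], ![0, B 2, 0], ?_⟩
      funext i; fin_cases i <;> simp [cross3, h0, h1]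
    · refine ⟨![0, -(B 2 / B 1), 1], ![B 1, 0, 0], ?_⟩
      funext i; fin_cases i <;> simp [cross3, h0] <;> field_simp
  · refine ⟨![-(B 1 / B 0), 1, 0], ![-(B 2), 0, B 0], ?_⟩
    funext i; fin_cases i <;> simp [cross3] <;> field_simp

/-- Opposite points are conjugate to the standard pair. -/
theorem move_pair {z f : V8} (hz : Pt z) (hf : Pt f) (h : bil z f = -1) :
    ∃ k : G₂, ap k z = uv 0 ∧ ap k f = dv 0 := by
  set i := zornMul z f with hi
  have hsum := zorn_comm_sum z f
  have hit : tr i = 1 := by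
    rw [hi, ← oct_eta z, ← oct_eta f, zorn_oct, tr_oct]
    have h' := h
    rw [← oct_eta z, ← oct_eta f, bil_oct] at h'
    have t1 : z 0 + z 7 = 0 := hz.1
    have t2 : f 0 + f 7 = 0 := hf.1
    simp [dot3] at h' ⊢
    linear_combination -h' + (f 0 + f 7) * t1
  have hin : nm i = 0 := by
    rw [hi, ← oct_eta z, ← oct_eta f, zorn_oct, nm_oct]
    have n1 : z 0 * z 7 - dot3 (up z) (dn z) = 0 := hz.2
    simp [dot3, cross3] at n1 ⊢
    linear_combination (f 0 * f 7 - (up f 0 * dn f 0 + up f 1 * dn f 1 + up f 2 * dn f 2)) * n1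
  obtain ⟨k₁, -, hk₁⟩ := exists_move hit hin
  have hs' : zornMul z f + zornMul f z = one8 := by
    rw [hsum, hz.1, hf.1, h, zero_smul, zero_smul, add_zero, zero_sub, neg_smul, one_smul, neg_neg]
  have sq0 : ∀ w : V8, Pt w → zornMul w w = 0 := fun w hw => by
    rw [sq_eq, hw.1, hw.2, zero_smul, zero_smul, sub_zero]
  have e1 : zornMul i z = z := by
    have a := congrArg (fun w => zornMul w z) hs'
    simp only [zorn_add_left, zorn_one_left, zorn_right_alt, sq0 z hz] at a
    rwa [show zornMul f (0 : V8) = 0 by simpa using zorn_smul_right (0 : F) f 0, add_zero, ← hi] at a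
  have e2 : zornMul f i = f := by
    have a := congrArg (fun w => zornMul f w) hs'
    simp only [zorn_add_right, zorn_one_right, zorn_left_alt, sq0 f hf] at a
    rwa [show zornMul (0 : V8) z = 0 by simpa using zorn_smul_left (0 : F) 0 z, add_zero, ← hi] at a
  -- upper and lower vectors
  set z' := ap k₁ z with hz'
  set f' := ap k₁ f with hf'
  have z1 : z' = oct 0 (up z') 0 0 := by
    have a := congrArg (ap k₁) e1
    rw [ap_zorn, hk₁, ← hz', eP, ← oct_eta z', zorn_oct] at a
    obtain ⟨-, -, b, c⟩ := oct_inj a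
    have ht : z' 0 + z' 7 = 0 := (hz.map k₁).1
    have c' : z' 7 = 0 := by simpa [dot3] using c.symm
    have b' : dn z' = 0 := by
      funext j; have := congrFun b j; fin_cases j <;> simpa [cross3] using this.symm
    conv_lhs => rw [← oct_eta z']
    rw [b', c', show z' 0 = 0 by linear_combination ht - c']
  have f1 : f' = oct 0 0 (dn f') 0 := by
    have a := congrArg (ap k₁) e2
    rw [ap_zorn, hk₁, ← hf', eP, ← oct_eta f', zorn_oct] at a
    obtain ⟨-, b, -, c⟩ := oct_inj a
    have ht : f' 0 + f' 7 = 0 := (hf.map k₁).1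
    have c' : f' 7 = 0 := by simpa [dot3] using c.symm
    have b' : up f' = 0 := by
      funext j; have := congrFun b j; fin_cases j <;> simpa [cross3] using this.symm
    conv_lhs => rw [← oct_eta f']
    rw [b', c', show f' 0 = 0 by linear_combination ht - c']
  have hd : dot3 (up z') (dn f') = 1 := by
    have a : bil z' f' = -1 := by rw [hz', hf', bil_ap]; exact h
    rw [z1, f1, bil_oct] at a
    simp [dot3] at a ⊢
    linear_combination -a
  obtain ⟨C₁, C₂, hC⟩ := exists_cross (dn f') (fun e => by simp [dot3, e] at hd)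
  let M : Matrix.SpecialLinearGroup (Fin 3) F :=
    ⟨Matrix.of fun i j => ![up z', C₁, C₂] j i, by rw [cross_eq_det, hC]; exact hd⟩
  have mz : ap (slG M) (uv 0) = z' := by
    rw [uv, ap_slG_oct, z1]
    congr 1
    · funext j; fin_cases j <;> simp [M, up_oct]
    · simp
  have mf : ap (slG M) (dv 0) = f' := by
    rw [dv, ap_slG_oct, f1]
    congr 1
    · simp
    · rw [show (M : Matrix (Fin 3) (Fin 3) F) = Matrix.of fun i j => ![up z', C₁, C₂] j i from rfl,
        Matrix.adjugate_fin_three, ← hC]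
      funext j; fin_cases j <;> simp [cross3, dn_oct] <;> ring
  exact ⟨(slG M)⁻¹ * k₁, by rw [ap_mul_apply, ← hz', ← mz, ap_inv_apply],
    by rw [ap_mul_apply, ← hf', ← mf, ap_inv_apply]⟩

/-- All non-zero singular points of trace zero are conjugate. -/
theorem move_one {z : V8} (hz : Pt z) (h0 : z ≠ 0) : ∃ k : G₂, ap k z = uv 0 := by
  have key : ∃ w : V8, Pt w ∧ bil z w ≠ 0 := by
    by_contra hall
    push Not at hall
    have hu : ∀ i, dn z i = 0 := fun i => by
      have := hall (uv i) (pt_uv i)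
      rw [← oct_eta z, uv, bil_oct] at this
      fin_cases i <;> simpa [dot3] using this
    have hd : ∀ i, up z i = 0 := fun i => by
      have := hall (dv i) (pt_dv i)
      rw [← oct_eta z, dv, bil_oct] at this
      fin_cases i <;> simpa [dot3] using this
    have t : z 0 + z 7 = 0 := hz.1
    have n : z 0 * z 7 - dot3 (up z) (dn z) = 0 := hz.2
    simp [dot3, hu, hd] at n
    apply h0
    rw [← oct_eta z, show up z = 0 from funext hd, show dn z = 0 from funext hu]
    rcases n with n | n
    · rw [n, show z 7 = 0 by linear_combination t - n, oct_zero]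
    · rw [n, show z 0 = 0 by linear_combination t - n, oct_zero]
  obtain ⟨w, hw, hb⟩ := key
  obtain ⟨k, hk, -⟩ := move_pair hz (hw.smul (-(bil z w)⁻¹)) (by simp [hb])
  exact ⟨k, hk⟩

set_option maxHeartbeats 1000000 in
/-- A non-trivial automorphism moves some point away from its collinear points. -/
theorem exists_apart {g : G₂} (hg : g ≠ 1) :
    ∃ z : V8, Pt z ∧ zornMul z (ap g z) ≠ 0 := by
  by_contra hall
  push Not at hall
  -- some point is moved
  obtain ⟨z, hz, hne⟩ : ∃ z : V8, Pt z ∧ ∀ c : F, ap g z ≠ c • z := by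
    by_contra h
    push Not at h
    choose! c hc using h
    have pair : ∀ i, ap g (uv i) = c (uv i) • uv i := fun i => hc _ (pt_uv i)
    have same : ∀ i j, i ≠ j → c (uv i) = c (uv j) := by
      intro i j hij
      have hp : Pt (uv i + uv (F := F) j) := ⟨by simp [uv, tr_oct], by simp [uv, oct_add, nm_oct, dot3]⟩
      have e := hc _ hp
      rw [map_add, pair, pair] at e
      generalize c (uv i) = a at e ⊢
      generalize c (uv j) = b at e ⊢
      generalize c (uv i + uv j) = d at e
      simp only [uv, oct_smul, oct_add] at e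
      obtain ⟨-, e, -, -⟩ := oct_inj e
      have ei := congrFun e i; have ej := congrFun e j
      simp [Pi.single_apply, hij, hij.symm] at ei ej
      rw [ei, ej]
    set a := c (uv 0) with ha
    have hu : ∀ i, ap g (uv i) = a • uv i := by
      intro i
      rw [pair]
      by_cases hi : i = 0
      · rw [hi]
      · rw [same i 0 hi]
    have hprod : zornMul (uv 1) (uv 2) = dv (F := F) (0 : Fin 3) := by
      rw [uv, uv, dv, zorn_oct]; funext i; fin_cases i <;> simp [oct, dot3, cross3]
    have hd : ap g (dv 0) = (a * a) • dv 0 := by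
      rw [← hprod, ap_zorn, hu, hu, zorn_smul_left, zorn_smul_right, smul_smul]
    have hp : Pt (uv 1 + dv (F := F) 0) := ⟨by simp [uv, dv, tr_oct], by simp [uv, dv, oct_add, nm_oct, dot3]⟩
    have e := hc _ hp
    rw [map_add, hu, hd] at e
    simp only [uv, dv, oct_smul, oct_add] at e
    obtain ⟨-, eA, eB, -⟩ := oct_inj e
    have e1 := congrFun eA 1; have e2 := congrFun eB 0
    simp at e1 e2
    have ha0 : a ≠ 0 := by
      intro z0
      have h' := congrArg (ap g⁻¹) (hu 0)
      rw [ap_inv_apply, z0, zero_smul, map_zero] at h'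
      simpa [uv, oct] using congrFun h' 1
    have a1 : a = 1 := mul_right_cancel₀ ha0 (show a * a = 1 * a by rw [e2, ← e1, one_mul])
    have heP : zornMul (uv 0) (dv 0) = (eP : V8) := by
      rw [uv, dv, eP, zorn_oct]; funext i; fin_cases i <;> simp [oct, dot3, cross3]
    have hfix : ap g eP = eP := by
      rw [← heP, ap_zorn, hu, hd, a1, one_smul, mul_one, one_smul]
    obtain ⟨P, hP⟩ := exists_slG_of_fix hfix
    apply hg
    rw [← hP, show P = 1 from ?_, map_one]
    refine Subtype.ext (Matrix.ext fun i j => ?_)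
    have hj := hu j
    rw [← hP, a1, one_smul, uv, ap_slG_oct] at hj
    obtain ⟨-, hj, -, -⟩ := oct_inj hj
    simpa [Pi.single_apply, Matrix.one_apply, eq_comm] using congrFun hj i
  -- normalise `z`
  have hz0 : z ≠ 0 := fun e => hne 1 (by rw [e, map_zero, smul_zero])
  obtain ⟨k, hk⟩ := move_one hz hz0
  have hall' : ∀ w : V8, Pt w → zornMul w (ap (k * g * k⁻¹) w) = 0 := fun w hw => by
    have h' := congrArg (ap k) (hall _ (hw.map k⁻¹))
    rwa [ap_zorn, ap_apply_inv, map_zero, ← ap_mul_apply, ← ap_mul_apply] at h'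
  set y := ap (k * g * k⁻¹) (uv 0) with hy
  have hpy : Pt y := (pt_uv 0).map _
  have y1 := ann_uv0 hpy.1 (hall' _ (pt_uv 0))
  have hynot : ∀ c : F, y ≠ c • uv 0 := by
    intro c e
    rw [hy, ← hk, ap_mul_apply, ap_mul_apply, ap_inv_apply, ← map_smul] at e
    have h' := congrArg (ap k⁻¹) e
    rw [ap_inv_apply, ap_inv_apply] at h'
    exact hne c h'
  set a := up y 0
  set p := dn y 1
  set r := dn y 2
  -- a point collinear to `u₀` with the same property as `y`
  have nz : p ≠ 0 ∨ r ≠ 0 := by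
    by_contra h; push Not at h
    refine hynot a ?_
    rw [y1, h.1, h.2, uv, oct_smul]
    funext i; fin_cases i <;> simp [oct]
  obtain ⟨s, t, hst⟩ : ∃ s t : F, p * t - r * s ≠ 0 := by
    rcases nz with hp | hr
    · exact ⟨0, 1, by simpa using hp⟩
    · exact ⟨1, 0, by simpa using hr⟩
  set g' := k * g * k⁻¹ with hg'
  have hpw : ∀ e : F, Pt (oct (0 : F) 0 ![0, s + e * p, t + e * r] 0) := fun e =>
    ⟨by simp [tr_oct], by simp [nm_oct, dot3]⟩
  have main : ∀ e : F, ∃ c : F, ap g' (oct 0 0 ![0, s + e * p, t + e * r] 0) = c • uv 0 := by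
    intro e
    set w := oct (0 : F) 0 ![0, s + e * p, t + e * r] 0 with hw
    set x := ap g' w with hx
    have h1 : zornMul w x = 0 := hall' w (hpw e)
    have h2 : zornMul y x = 0 := by
      rw [hy, hx, ← ap_zorn, show zornMul (uv 0) w = (0 : V8) from ?_, map_zero]
      rw [uv, hw, zorn_oct]
      funext i; fin_cases i <;> simp [oct, dot3, cross3]
    have tx : x 0 + x 7 = 0 := ((hpw e).map g').1
    rw [hw, ← oct_eta x, zorn_oct, ← oct_zero] at h1
    rw [y1, ← oct_eta x, zorn_oct, ← oct_zero] at h2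
    obtain ⟨-, hA, hB, hD⟩ := oct_inj h1
    obtain ⟨k0, kA, kB, kD⟩ := oct_inj h2
    have A1 := congrFun hA 0; have A2 := congrFun hA 1; have A3 := congrFun hA 2
    have B1 := congrFun hB 1; have B2 := congrFun hB 2
    have K1 := congrFun kA 0; have K2 := congrFun kA 1; have K3 := congrFun kA 2
    have L1 := congrFun kB 1; have L2 := congrFun kB 2
    simp [dot3, cross3, Matrix.vecHead, Matrix.vecTail] at A1 A2 A3 B1 B2 hD k0 K1 K2 K3 L1 L2 kD
    have h0 : dn x 0 = 0 := by
      by_contra h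
      have a2 : t + e * r = 0 := A2.resolve_right h
      have a3 : s + e * p = 0 := A3.resolve_right h
      exact hst (by linear_combination p * a2 - r * a3)
    have x0 : x 0 = 0 := by
      by_contra h
      have a3 : s + e * p = 0 := B1.resolve_left h
      have a2 : t + e * r = 0 := B2.resolve_left h
      exact hst (by linear_combination p * a2 - r * a3)
    have x7 : x 7 = 0 := by linear_combination tx - x0
    simp only [x0, x7, h0, zero_mul, mul_zero, zero_add, add_zero, sub_zero, zero_sub] at A1 hD K1 kD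
    have u1 : up x 1 = 0 := by
      refine (mul_eq_zero.1 (?_ : (p * t - r * s) * up x 1 = 0)).resolve_left hst
      linear_combination (t + e * r) * kD - r * hD
    have u2 : up x 2 = 0 := by
      refine (mul_eq_zero.1 (?_ : (p * t - r * s) * up x 2 = 0)).resolve_left hst
      linear_combination p * hD - (s + e * p) * kD
    have d1 : dn x 1 = 0 := by
      refine (mul_eq_zero.1 (?_ : (p * t - r * s) * dn x 1 = 0)).resolve_left hst
      first
        | linear_combination p * A1 - (s + e * p) * K1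
        | linear_combination -(p * A1) + (s + e * p) * K1
    have d2 : dn x 2 = 0 := by
      refine (mul_eq_zero.1 (?_ : (p * t - r * s) * dn x 2 = 0)).resolve_left hst
      first
        | linear_combination r * A1 - (t + e * r) * K1
        | linear_combination -(r * A1) + (t + e * r) * K1
    refine ⟨up x 0, ?_⟩
    rw [← oct_eta x, x0, x7, uv, oct_smul]
    congr 1 <;> first | (simp; done) | (funext i; fin_cases i <;> simp [h0, u1, u2, d1, d2, up_oct, dn_oct])
  obtain ⟨c0, h0⟩ := main 0
  obtain ⟨c1, h1⟩ := main 1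
  have e : ap g' (c1 • oct 0 0 ![0, s, t] 0 - c0 • oct 0 0 ![0, s + p, t + r] 0) = 0 := by
    simp at h0 h1
    rw [map_sub, map_smul, map_smul, h0, h1, smul_smul, smul_smul, mul_comm, sub_self]
  have e' := congrArg (ap g'⁻¹) e
  rw [ap_inv_apply, map_zero] at e'
  have e5 := congrFun e' 5; have e6 := congrFun e' 6
  simp [oct] at e5 e6
  have hc0 : c0 = 0 := by
    by_contra h
    apply hst
    grind
  have hh := h0
  rw [hc0, zero_smul] at hh
  have e'' := congrArg (ap g'⁻¹) hh
  rw [ap_inv_apply, map_zero] at e''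
  have f5 := congrFun e'' 5; have f6 := congrFun e'' 6
  simp [oct] at f5 f6
  exact hst (by rw [f5, f6]; ring)

/-- **Normal form.** -/
theorem normalise {g : G₂} (hg : g ≠ 1) :
    ∃ k : G₂, (∃ c : F, c ≠ 0 ∧ ap (k * g * k⁻¹) (uv 0) = c • dv 0) ∨ ap (k * g * k⁻¹) (uv 0) = uv 1 := by
  obtain ⟨z, hz, hne⟩ := exists_apart hg
  by_cases hb : bil z (ap g z) = 0
  swap
  · obtain ⟨k, h1, h2⟩ := move_pair hz ((hz.map g).smul (-(bil z (ap g z))⁻¹)) (by simp [hb])
    refine ⟨k, Or.inl ⟨-(bil z (ap g z)), neg_ne_zero.2 hb, ?_⟩⟩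
    rw [ap_mul_apply, ap_mul_apply, ← h1, ap_inv_apply, ← h2, map_smul, smul_smul]
    field_simp; simp
  obtain ⟨k, hk⟩ := move_one hz (fun e => hne (by rw [e]; simpa using zorn_smul_left (0 : F) 0 (ap g 0)))
  set y := ap k (ap g z) with hy
  have hpy : Pt y := (hz.map g).map k
  have hby : bil (uv 0) y = 0 := by rw [← hk, hy, bil_ap, hb]
  have hzy : zornMul (uv 0) y ≠ 0 := by
    rw [← hk, hy, ← ap_zorn]
    intro e
    have := congrArg (ap k⁻¹) e
    rw [ap_inv_apply, map_zero] at this
    exact hne this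
  have hB0 : dn y 0 = 0 := by
    rw [← oct_eta y, uv, bil_oct] at hby; simpa [dot3] using hby
  have ht : y 0 + y 7 = 0 := hpy.1
  have hn : y 0 * y 7 - dot3 (up y) (dn y) = 0 := hpy.2
  simp [dot3, hB0] at hn
  have hA : up y 1 ≠ 0 ∨ up y 2 ≠ 0 := by
    by_contra h; push Not at h
    have y0 : y 0 = 0 := by
      rw [h.1, h.2, show y 7 = -(y 0) by linear_combination ht] at hn; simpa using hn
    apply hzy
    rw [← oct_eta y, uv, zorn_oct, ← oct_zero, y0, show y 7 = 0 by linear_combination ht - y0]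
    congr 1 <;> first | (simp [dot3, hB0]; done) | (funext i; fin_cases i <;> simp [cross3, h.1, h.2, hB0])
  -- kill the diagonal
  obtain ⟨c, hc⟩ : ∃ c : Fin 3 → F, c 0 = 0 ∧ dot3 c (up y) = y 0 := by
    rcases hA with h | h
    · exact ⟨![0, y 0 / up y 1, 0], rfl, by simp [dot3]; field_simp⟩
    · exact ⟨![0, 0, y 0 / up y 2], rfl, by simp [dot3]; field_simp⟩
  have k2u : ap (psiG c) (uv 0) = uv 0 := by
    rw [uv, ap_psiG, psi_oct]
    congr 1 <;> first | (simp [dot3, hc.1]; done) | (funext i; fin_cases i <;> simp [cross3, dot3, hc.1])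
  set A := up y + cross3 c (dn y) with hAdef
  set B := dn y + (y 0 - y 7) • c - dot3 c (up y) • c with hBdef
  have k2y : ap (psiG c) y = oct 0 A B 0 := by
    conv_lhs => rw [← oct_eta y, ap_psiG, psi_oct]
    rw [hc.2, sub_self, show y 7 + y 0 = 0 by linear_combination ht, hAdef, hBdef, hc.2]
  have hA1 : A 1 = up y 1 := by simp [hAdef, cross3, hc.1, hB0, Matrix.vecHead, Matrix.vecTail]
  have hA2 : A 2 = up y 2 := by simp [hAdef, cross3, hc.1, hB0, Matrix.vecHead, Matrix.vecTail]
  have hBz : B 0 = 0 := by simp [hBdef, hc.1, hB0]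
  have hAB : A 1 * B 1 + A 2 * B 2 = 0 := by
    have hh : Pt (oct 0 A B 0) := k2y ▸ hpy.map _
    have := hh.2
    simp [nm_oct, dot3, hBz] at this
    linear_combination -this
  -- move the upper part to `e₁`
  obtain ⟨C, hC⟩ : ∃ C : Fin 3 → F, A 1 * C 2 - A 2 * C 1 = 1 ∧ C 0 = 0 := by
    rcases hA with h | h
    · exact ⟨![0, 0, (A 1)⁻¹], by simp [hA1, h], rfl⟩
    · exact ⟨![0, -(A 2)⁻¹, 0], by simp [hA2, h], rfl⟩
  let M : Matrix.SpecialLinearGroup (Fin 3) F :=
    ⟨Matrix.of fun i j => ![![1, 0, 0], A, C] j i, by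
      simp [Matrix.det_fin_three]; linear_combination hC.1⟩
  obtain ⟨s, hs⟩ : ∃ s : F, ap (slG M) (oct 0 (Pi.single 1 1) ![0, 0, s] 0) = oct 0 A B 0 := by
    refine ⟨C 1 * B 1 + C 2 * B 2, ?_⟩
    rw [ap_slG_oct, show (M : Matrix (Fin 3) (Fin 3) F) = Matrix.of fun i j => ![![1, 0, 0], A, C] j i from rfl,
      Matrix.adjugate_fin_three]
    congr 1
    · funext i; fin_cases i <;> simp
    · funext i; fin_cases i <;>
        simp [hBz, hC.2, Matrix.mulVec, dotProduct, Fin.sum_univ_three, Matrix.vecHead, Matrix.vecTail] <;> grind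
  have hsu : ap (slG M) (uv 0) = uv 0 := by
    rw [uv, ap_slG_oct]
    congr 1
    · funext i; fin_cases i <;> simp [M]
    · simp
  set k3 := phiG ![-s, 0, 0] with hk3
  have k3u : ap k3 (uv 0) = uv 0 := by
    rw [hk3, uv, ap_phiG, phi_oct]
    congr 1 <;> first | (simp [dot3]; done) | (funext i; fin_cases i <;> simp [cross3, dot3])
  have k3y : ap k3 (oct 0 (Pi.single 1 1) ![0, 0, s] 0) = uv 1 := by
    rw [hk3, uv, ap_phiG, phi_oct]
    congr 1 <;> first | (simp [dot3]; done) | (funext i; fin_cases i <;> simp [cross3, dot3])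
  refine ⟨k3 * (slG M)⁻¹ * psiG c * k, Or.inr ?_⟩
  set K := k3 * (slG M)⁻¹ * psiG c * k with hK
  have hKz : ap K z = uv 0 := by
    rw [hK, ap_mul_apply, hk, ap_mul_apply, k2u, ap_mul_apply]
    conv_lhs => rw [← hsu, ap_inv_apply, k3u]
  rw [ap_mul_apply, ap_mul_apply, ← hKz, ap_inv_apply, hK, ap_mul_apply, ← hy, ap_mul_apply, k2y, ap_mul_apply,
    ← hs, ap_inv_apply, k3y]

/-- The vectors spanning the plane of a point opposite to `u₀`. -/
def wvec (f : V8) (i : Fin 2) : V8 :=
  let C : Fin 3 → F := ![0, if i = 0 then 1 else 0, if i = 0 then 0 else 1]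
  let c : F := -(up f 1 * C 2 - up f 2 * C 1)
  oct c ![-(f 0 * c) - dn f 1 * C 1 - dn f 2 * C 2, C 1, C 2]
    ![0, f 0 * C 2 - c * up f 2, c * up f 1 - f 0 * C 1] (-c)

/-- **The decomposition for a second point `f`.** -/
theorem decomp_at {g : G₂} {δ : F} (hδ : δ ≠ 0) {f : V8} (hf : Pt f) (h0 : dn f 0 = 1)
    (hg : bil f (ap g (uv 0)) = -δ) :
    ∃ k : G₂, ∃ v ∈ (Qm : Subgroup G₂), ∃ u ∈ (Qp : Subgroup G₂), ∃ N : GL (Fin 2) F,
      k⁻¹ * g * k = v * lg N * u ∧ (N : Matrix (Fin 2) (Fin 2) F).det = δ ∧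
      ∀ i j, (N : Matrix (Fin 2) (Fin 2) F) i j = -(bil (wvec f i) (ap g (![dv 1, dv 2] j)) +
        bil (wvec f i) (ap g (uv 0)) * bil f (ap g (![dv 1, dv 2] j)) / δ) := by
  obtain ⟨k, hk, hkf⟩ := exists_Qp f hf.1 hf.2 h0
  have pull : ∀ X Y : V8, bil X (ap (k⁻¹ * g * k) Y) = bil (ap k X) (ap g (ap k Y)) := fun X Y => by
    rw [ap_mul_apply, ap_mul_apply, ← bil_ap k, ap_apply_inv]
  obtain ⟨v, hv, u, hu, N, e, hd, hN⟩ := decomp hδ (g := k⁻¹ * g * k) (by rw [pull, hkf, hk.1, hg])
  refine ⟨k, v, hv, u, hu, N, e, hd, fun i j => ?_⟩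
  have hw : ap k (![uv 1, uv 2] i) = wvec f i := by
    set w := ap k (![uv 1, uv 2] i) with hwd
    have tw : w 0 + w 7 = 0 := (show tr w = 0 by rw [hwd, tr_ap]; fin_cases i <;> simp [uv, tr_oct])
    have d0 : dn w 0 = 0 := by
      have : bil w (uv 0) = 0 := by
        conv_lhs => rw [← hk.1, hwd, bil_ap]
        fin_cases i <;> simp [uv, bil_oct, dot3]
      rw [← oct_eta w, uv, bil_oct] at this; simpa [dot3] using this
    have up12 : ∀ l : Fin 2, bil w (![dv 1, dv 2] l) = if i = l then -1 else 0 := by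
      intro l
      obtain ⟨a, ha⟩ := hk.2 l
      rw [show ![dv 1, dv 2] l = ap k (![dv 1, dv 2] l) - a • ap k (uv 0) by rw [ha, hk.1]; module,
        map_sub, map_smul, hwd, bil_ap, bil_ap]
      fin_cases i <;> fin_cases l <;> simp [uv, dv, bil_oct, dot3]
    have prod : zornMul f w = 0 := by
      rw [← hkf, hwd, ← ap_zorn, show zornMul (dv 0) (![uv 1, uv 2] i) = (0 : V8) from ?_, map_zero]
      fin_cases i <;> simp only [Fin.zero_eta, Fin.mk_one, Matrix.cons_val_zero, Matrix.cons_val_one, uv, dv,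
          zorn_oct] <;> funext l <;> fin_cases l <;> simp [oct, dot3, cross3]
    have a1 := up12 0; have a2 := up12 1
    simp only [Matrix.cons_val_zero, Matrix.cons_val_one] at a1 a2
    rw [← oct_eta w, dv, bil_oct] at a1 a2
    simp [dot3] at a1 a2
    have h7 : f 7 = -(f 0) := by have := hf.1; change f 0 + f 7 = 0 at this; linear_combination this
    have w7 : w 7 = -(w 0) := by linear_combination tw
    rw [← oct_eta f, ← oct_eta w, zorn_oct, ← oct_zero] at prod
    obtain ⟨-, pA, pB, pD⟩ := oct_inj prod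
    have A1 := congrFun pA 1; have A2 := congrFun pA 2; have B0 := congrFun pB 0
    simp [dot3, cross3, d0, h0, h7, w7] at A1 A2 B0 pD
    clear_value w
    rw [← oct_eta w]
    fin_cases i <;> simp at a1 a2 <;> simp only [a1, a2] at A1 A2 B0 pD
    · have e0 : w 0 = up f 2 := by linear_combination B0
      rw [e0] at A1 A2 pD w7
      unfold wvec
      congr 1
      · simp [e0]
      · funext l; fin_cases l <;> simp [a1, a2]
        linear_combination pD
      · funext l; fin_cases l <;> simp [d0]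
        · linear_combination -A2
        · linear_combination A1
      · simp [w7]
    · have e0 : w 0 = -(up f 1) := by linear_combination B0
      rw [e0] at A1 A2 pD w7
      unfold wvec
      congr 1
      · simp [e0]
      · funext l; fin_cases l <;> simp [a1, a2]
        linear_combination pD
      · funext l; fin_cases l <;> simp [d0]
        · linear_combination -A2
        · linear_combination A1
      · simp [w7]
  obtain ⟨a, ha⟩ := hk.2 j
  rw [hN, pull, pull, pull, hkf, hk.1, hw, ha]
  simp only [map_add, map_smul, hg, smul_eq_mul]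
  field_simp
  ring

end Cfsg.Agent.H14.GTwoSquare
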