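import Mathlib.FieldTheory.Finite.Basic
import Mathlib.LinearAlgebra.Matrix.GeneralLinearGroup.Defs
import Mathlib.LinearAlgebra.Matrix.Notation
import Mathlib.LinearAlgebra.Matrix.Determinant.Basic
import Mathlib.Tactic

/-!
# Products of two conjugates of an irreducible 2 × 2 matrix

For `N₀` with irreducible characteristic polynomial `t² - T t + D`, every non-scalar matrix of determinant `D²` and trace
different from `2 D` is a product of two conjugates of `N₀`.
-/

set_option autoImplicit false

namespace Cfsg.Agent.H14.GTwoSquare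

open Matrix

variable {F : Type*} [Field F]

/-- The companion matrix of `t² - T t + D`. -/
def comp (T D : F) : Matrix (Fin 2) (Fin 2) F := !![0, -D; 1, T]

theorem det_comp (T D : F) : (comp T D).det = D := by simp [comp, det_fin_two]

/-- `t² - T t + D` has no root. -/
def Irred (T D : F) : Prop := ∀ z : F, z * z - T * z + D ≠ 0

theorem Irred.ne_zero {T D : F} (h : Irred T D) : D ≠ 0 := by
  intro e; exact h 0 (by simp [e])

/-- A matrix that is not scalar has a cyclic vector. -/
theorem exists_cyclic {M : Matrix (Fin 2) (Fin 2) F} (hM : ¬ ∃ c : F, M = c • 1) :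
    ∃ v : Fin 2 → F, v 0 * (M *ᵥ v) 1 - v 1 * (M *ᵥ v) 0 ≠ 0 := by
  by_contra h
  push Not at h
  have h0 := h ![1, 0]
  have h1 := h ![0, 1]
  have h2 := h ![1, 1]
  simp [mulVec, dotProduct, Fin.sum_univ_two] at h0 h1 h2
  refine hM ⟨M 0 0, ?_⟩
  ext i j
  fin_cases i <;> fin_cases j <;> simp [h0, h1]
  rw [h0, h1] at h2
  linear_combination h2

/-- A non-scalar matrix is conjugate to its companion matrix. -/
theorem exists_conj_comp {M : Matrix (Fin 2) (Fin 2) F} (hM : ¬ ∃ c : F, M = c • 1) :
    ∃ S : GL (Fin 2) F, M * (S : Matrix (Fin 2) (Fin 2) F) = S * comp M.trace M.det := by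
  obtain ⟨v, hv⟩ := exists_cyclic hM
  let S0 : Matrix (Fin 2) (Fin 2) F := !![v 0, (M *ᵥ v) 0; v 1, (M *ᵥ v) 1]
  have hS : S0.det ≠ 0 := by
    simp [S0, det_fin_two]
    intro e; exact hv (by linear_combination e)
  refine ⟨Matrix.GeneralLinearGroup.mkOfDetNeZero S0 hS, ?_⟩
  show M * S0 = S0 * _
  ext i j
  fin_cases i <;> fin_cases j <;>
    simp [S0, comp, mul_apply, Fin.sum_univ_two, mulVec, dotProduct, det_fin_two, trace_fin_two] <;> ring

variable [Fintype F]

/-- The conic that has to be solved. -/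
theorem exists_conic (T D t : F) (hT : (2 : F) ≠ 0 → T ≠ 0) (ht : t ≠ 2 * D) :
    ∃ a c : F, a * a + t * a * c + D * D * c * c - T * a - T * D * c + D = 0 := by
  classical
  by_cases h2 : (2 : F) = 0
  · have ht0 : t ≠ 0 := by simpa [h2] using ht
    let c := T / t
    have hc : t * c = T := mul_div_cancel₀ T ht0
    have hchar : ringChar F = 2 :=
      ((Nat.prime_dvd_prime_iff_eq (CharP.char_is_prime F (ringChar F)) Nat.prime_two).1
        ((ringChar.spec F 2).1 (by exact_mod_cast h2)))
    obtain ⟨a, ha⟩ := FiniteField.isSquare_of_char_two hchar (-(D * D * c * c - T * D * c + D))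
    exact ⟨a, c, by linear_combination -ha + a * hc⟩
  · have hT0 := hT h2
    by_cases hm : D * D - t * t / 4 = 0
    · have h4 : (4 : F) ≠ 0 := by
        intro e; exact h2 (pow_eq_zero_iff two_ne_zero |>.1 (by linear_combination e : (2 : F) ^ 2 = 0))
      have e : (t - 2 * D) * (t + 2 * D) = 0 := by field_simp at hm; linear_combination -hm
      have e' : t = -(2 * D) := by
        rcases mul_eq_zero.1 e with e | e
        · exact absurd (sub_eq_zero.1 e) ht
        · linear_combination e
      refine ⟨D * (1 / (2 * T)), 1 / (2 * T), ?_⟩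
      rw [e']; field_simp; ring
    · let f : Polynomial F := Polynomial.C 1 * Polynomial.X ^ 2 + Polynomial.C (-T) * Polynomial.X + Polynomial.C 0
      let g : Polynomial F := Polynomial.C (D * D - t * t / 4) * Polynomial.X ^ 2 +
        Polynomial.C (t * T / 2 - T * D) * Polynomial.X + Polynomial.C D
      have hodd : Fintype.card F % 2 = 1 :=
        FiniteField.odd_card_of_char_ne_two (fun e => h2 (by
          have : CharP F 2 := ringChar.of_eq e
          exact CharP.cast_eq_zero F 2))
      obtain ⟨X, c, h⟩ := FiniteField.exists_root_sum_quadratic (f := f) (g := g)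
        (Polynomial.degree_quadratic one_ne_zero) (Polynomial.degree_quadratic hm) hodd
      refine ⟨X - t * c / 2, c, ?_⟩
      simp [f, g] at h
      have h4 : (4 : F) ≠ 0 := by
        intro e; exact h2 (pow_eq_zero_iff two_ne_zero |>.1 (by linear_combination e : (2 : F) ^ 2 = 0))
      field_simp at h ⊢
      refine mul_left_cancel₀ h2 ?_
      linear_combination h

/-- **Products of two conjugates.** -/
theorem exists_factor {T D : F} (hI : Irred T D) (hT : (2 : F) ≠ 0 → T ≠ 0) {N : GL (Fin 2) F}
    (hN : ¬ ∃ c : F, (N : Matrix (Fin 2) (Fin 2) F) = c • 1) (hd : (N : Matrix (Fin 2) (Fin 2) F).det = D * D)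
    (ht : (N : Matrix (Fin 2) (Fin 2) F).trace ≠ 2 * D) {N₀ : GL (Fin 2) F}
    (h0 : (N₀ : Matrix (Fin 2) (Fin 2) F) = comp T D) :
    ∃ S R : GL (Fin 2) F, N = (S * N₀ * S⁻¹) * (R * N₀ * R⁻¹) := by
  set t := (N : Matrix (Fin 2) (Fin 2) F).trace with htdef
  obtain ⟨P, hP⟩ := exists_conj_comp hN
  rw [hd] at hP
  obtain ⟨a, c, hac⟩ := exists_conic T D t hT ht
  have hc : c ≠ 0 := by
    intro e; subst e; exact hI a (by linear_combination hac)
  let S0 : Matrix (Fin 2) (Fin 2) F := !![1, a; 0, c]
  let S : GL (Fin 2) F := Matrix.GeneralLinearGroup.mkOfDetNeZero S0 (by simpa [S0, det_fin_two] using hc)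
  -- the second factor
  let B : Matrix (Fin 2) (Fin 2) F :=
    !![-(c * D + (a * t - T * D) / D), -((T - a) * D + (c * D * D + a * t - T * D) * t / D);
       a / D, c * D + a * t / D]
  let A : Matrix (Fin 2) (Fin 2) F := !![a, c * D * D + a * t - T * D; c, T - a]
  have hD := hI.ne_zero
  have hA : A * (S : Matrix (Fin 2) (Fin 2) F) = S * N₀ := by
    show A * S0 = S0 * _
    rw [h0]
    ext i j
    fin_cases i <;> fin_cases j <;> simp [A, S0, comp, mul_apply, Fin.sum_univ_two] <;> grind
  have hAB : A * B = comp t (D * D) := by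
    ext i j
    fin_cases i <;> fin_cases j <;> simp [A, B, comp, mul_apply, Fin.sum_univ_two] <;> field_simp <;>
      grind
  have hB0 : B 1 0 ≠ 0 := by
    intro e
    have ha : a = 0 := by simpa [B, hD] using e
    subst ha
    -- then `c ↦ D c` gives a root
    refine hI (D * c) ?_
    linear_combination hac
  let R0 : Matrix (Fin 2) (Fin 2) F := !![1, B 0 0; 0, B 1 0]
  let R : GL (Fin 2) F := Matrix.GeneralLinearGroup.mkOfDetNeZero R0 (by simpa [R0, det_fin_two] using hB0)
  have hB : B * (R : Matrix (Fin 2) (Fin 2) F) = R * N₀ := by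
    show B * R0 = R0 * _
    rw [h0]
    ext i j
    fin_cases i <;> fin_cases j <;> simp [B, R0, comp, mul_apply, Fin.sum_univ_two] <;> field_simp <;>
      grind
  have eA : ((S * N₀ * S⁻¹ : GL (Fin 2) F) : Matrix (Fin 2) (Fin 2) F) = A := by
    rw [Units.val_mul, Units.val_mul, ← hA, mul_assoc, ← Units.val_mul, mul_inv_cancel, Units.val_one, mul_one]
  have eB : ((R * N₀ * R⁻¹ : GL (Fin 2) F) : Matrix (Fin 2) (Fin 2) F) = B := by
    rw [Units.val_mul, Units.val_mul, ← hB, mul_assoc, ← Units.val_mul, mul_inv_cancel, Units.val_one, mul_one]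
  have key : N = P * ((S * N₀ * S⁻¹) * (R * N₀ * R⁻¹)) * P⁻¹ := by
    rw [eq_mul_inv_iff_mul_eq]
    refine Units.ext ?_
    rw [Units.val_mul, Units.val_mul P, Units.val_mul (S * N₀ * S⁻¹), eA, eB, hAB]
    exact hP
  refine ⟨P * S, P * R, ?_⟩
  rw [key]; group

end Cfsg.Agent.H14.GTwoSquare
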