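import Cfsg.Agent.H14.GTwoSquare.Choose
import Cfsg.Agent.H14.GTwoSquare.Cent
import Cfsg.Agent.H14.GTwoOrd.Bridge

/-!
# Every non-trivial element of `G₂(q)` is a product of two conjugates of one semisimple element
-/

set_option autoImplicit false

namespace Cfsg.Agent.H14.GTwoSquare

open Cfsg.Agent.H14.GTwoOrd

/-- **The square of a semisimple class covers everything but the identity.** -/
theorem exists_square {F : Type*} [Field F] [Fintype F] (p : ℕ) [Fact p.Prime] [CharP F p]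
    (h3 : 3 ≤ Fintype.card F) :
    ∃ x : Cfsg.Lie.G2 F, ¬ p ∣ orderOf x ∧ ∀ g : Cfsg.Lie.G2 F, g ≠ 1 →
      ∃ u v : Cfsg.Lie.G2 F, g = (u * x * u⁻¹) * (v * x * v⁻¹) := by
  obtain ⟨D, hD1, hI⟩ := exists_irred (F := F) h3
  let N₀ : GL (Fin 2) F :=
    Matrix.GeneralLinearGroup.mkOfDetNeZero (comp 1 D) (by rw [det_comp]; exact hI.ne_zero)
  have h0 : (N₀ : Matrix (Fin 2) (Fin 2) F) = comp 1 D := rfl
  refine ⟨lg N₀, not_dvd_orderOf p hI h0, fun g hg => ?_⟩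
  obtain ⟨k, v, hv, u, hu, N, e, hd, hns, ht⟩ := exists_decomp hg hI.ne_zero hD1 h3
  obtain ⟨S, R, hSR⟩ := exists_factor hI (fun _ => one_ne_zero) hns hd ht h0
  obtain ⟨a, ha⟩ := isConj_iff.1 ((isConj_lg hI hD1 h0 S).1 v hv)
  obtain ⟨b, hb⟩ := isConj_iff.1 ((isConj_lg hI hD1 h0 R).2 u hu)
  refine ⟨k * a, k * b, ?_⟩
  have e' : k⁻¹ * g * k = (a * lg N₀ * a⁻¹) * (b * lg N₀ * b⁻¹) := by
    rw [e, hSR, map_mul, ha, hb]; group
  calc g = k * (k⁻¹ * g * k) * k⁻¹ := by group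
    _ = _ := by rw [e']; group

end Cfsg.Agent.H14.GTwoSquare
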