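import Cfsg.Agent.H14.GTwoOrd.Basic
import Cfsg.Agent.H14.GTwoSquare.GLTwo

/-!
# The two opposite point parabolic subgroups of `G₂` and their decomposition

With `e = u₀` and `f = d₀`, an automorphism `g` with `B(f, g e) ≠ 0` is `v · l · u` with `v ∈ Qm`, `u ∈ Qp` and `l` in
the Levi subgroup `GL₂`; the matrix of `l` is given by a formula.
-/

set_option autoImplicit false
set_option linter.unusedSectionVars false
set_option linter.unusedSimpArgs false

namespace Cfsg.Agent.H14.GTwoSquare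

open Cfsg.Lie (zornMul dot3 cross3)
open Cfsg.Agent.H55.Cover.GTwo (oct up dn oct_eta up_oct dn_oct zorn_oct phi psi phi_oct psi_oct slAct slAct_oct)
open Cfsg.Agent.H14.GTwoOrd
open scoped Matrix

variable {F : Type*} [Field F]

local notation "G₂" => Cfsg.Lie.G2 F
local notation "V8" => (Fin 8 → F)

/-- The vectors `uᵢ`. -/
def uv (i : Fin 3) : V8 := oct 0 (Pi.single i 1) 0 0

/-- The vectors `dᵢ`. -/
def dv (i : Fin 3) : V8 := oct 0 0 (Pi.single i 1) 0

theorem oct_smul (k a b : F) (A B : Fin 3 → F) : k • oct a A B b = oct (k * a) (k • A) (k • B) (k * b) := by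
  funext i; fin_cases i <;> simp [oct]

theorem oct_add (a b c d : F) (A B C D : Fin 3 → F) :
    oct a A B b + oct c C D d = oct (a + c) (A + C) (B + D) (b + d) := by
  funext i; fin_cases i <;> simp [oct]

theorem oct_inj {a b c d : F} {A B C D : Fin 3 → F} (h : oct a A B b = oct c C D d) :
    a = c ∧ A = C ∧ B = D ∧ b = d :=
  ⟨congrFun h 0, by simpa [up_oct] using congrArg up h, by simpa [dn_oct] using congrArg dn h, congrFun h 7⟩

theorem oct_zero : oct (0 : F) 0 0 0 = 0 := by funext i; fin_cases i <;> simp [oct]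

theorem tr_oct (a b : F) (A B : Fin 3 → F) : tr (oct a A B b) = a + b := by simp [tr, oct]

theorem nm_oct (a b : F) (A B : Fin 3 → F) : nm (oct a A B b) = a * b - dot3 A B := by
  simp only [nm, up_oct, dn_oct]; simp [oct]

/-- The bilinear form in coordinates. -/
theorem bil_oct (a b c d : F) (A B C D : Fin 3 → F) :
    bil (oct a A B b) (oct c C D d) = a * d + b * c - dot3 A D - dot3 C B := by
  have h := nm_add (oct a A B b) (oct c C D d)
  rw [oct_add, nm_oct, nm_oct, nm_oct] at h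
  simp only [dot3, Pi.add_apply] at h ⊢
  linear_combination -h

/-- Automorphisms fixing `e` and moving each `S j` along `e`. -/
def Unip (e : V8) (S : Fin 2 → V8) : Subgroup G₂ where
  carrier := {g | ap g e = e ∧ ∀ j, ∃ a : F, ap g (S j) = S j + a • e}
  one_mem' := ⟨by rw [ap_one]; rfl, fun j => ⟨0, by rw [ap_one, zero_smul, add_zero]; rfl⟩⟩
  mul_mem' := by
    rintro g h ⟨hg, hg'⟩ ⟨hh, hh'⟩
    refine ⟨by rw [ap_mul_apply, hh, hg], fun j => ?_⟩
    obtain ⟨a, ha⟩ := hg' j; obtain ⟨b, hb⟩ := hh' j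
    exact ⟨a + b, by rw [ap_mul_apply, hb, map_add, map_smul, ha, hg, add_assoc, ← add_smul]⟩
  inv_mem' := by
    rintro g ⟨hg, hg'⟩
    have he : ap g⁻¹ e = e := by conv_lhs => rw [← hg, ap_inv_apply]
    refine ⟨he, fun j => ?_⟩
    obtain ⟨a, ha⟩ := hg' j
    refine ⟨-a, ?_⟩
    have := congrArg (ap g⁻¹) ha
    rw [ap_inv_apply, map_add, map_smul, he] at this
    rw [neg_smul, ← sub_eq_add_neg, eq_sub_iff_add_eq]; exact this.symm

theorem conj_mem {e : V8} {S : Fin 2 → V8} {h w : G₂} {c : F} {M : Matrix (Fin 2) (Fin 2) F}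
    (he : ap h e = c • e) (hc : c ≠ 0) (hi : ∀ j, ap h⁻¹ (S j) = M 0 j • S 0 + M 1 j • S 1)
    (hw : w ∈ Unip e S) : h * w * h⁻¹ ∈ Unip e S := by
  have he' : ap h⁻¹ e = c⁻¹ • e := by
    have := congrArg (ap h⁻¹) he
    rw [ap_inv_apply, map_smul] at this
    conv_rhs => rw [this, smul_smul, inv_mul_cancel₀ hc, one_smul]
  refine ⟨?_, fun j => ?_⟩
  · rw [ap_mul_apply, ap_mul_apply, he', map_smul, hw.1, map_smul, he, smul_smul, inv_mul_cancel₀ hc, one_smul]
  · obtain ⟨a0, h0⟩ := hw.2 0; obtain ⟨a1, h1⟩ := hw.2 1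
    refine ⟨(M 0 j * a0 + M 1 j * a1) * c, ?_⟩
    rw [ap_mul_apply, ap_mul_apply, hi, map_add, map_smul, map_smul, h0, h1]
    have : ap h (M 0 j • S 0 + M 1 j • S 1) = S j := by rw [← hi, ap_apply_inv]
    rw [show M 0 j • (S 0 + a0 • e) + M 1 j • (S 1 + a1 • e) =
      (M 0 j • S 0 + M 1 j • S 1) + (M 0 j * a0 + M 1 j * a1) • e by module, map_add, map_smul, this, he, smul_smul]

/-- The unipotent radical fixing `e = u₀`. -/
abbrev Qp : Subgroup G₂ := Unip (uv 0) ![dv 1, dv 2]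

/-- The opposite radical, fixing `f = d₀`. -/
abbrev Qm : Subgroup G₂ := Unip (dv 0) ![uv 1, uv 2]

/-- The Levi subgroup `GL₂`. -/
def leviMat (N : GL (Fin 2) F) : Matrix (Fin 3) (Fin 3) F :=
  !![(N : Matrix (Fin 2) (Fin 2) F).det, 0, 0;
     0, ((N⁻¹ : GL (Fin 2) F) : Matrix (Fin 2) (Fin 2) F) 0 0, ((N⁻¹ : GL (Fin 2) F) : Matrix (Fin 2) (Fin 2) F) 1 0;
     0, ((N⁻¹ : GL (Fin 2) F) : Matrix (Fin 2) (Fin 2) F) 0 1, ((N⁻¹ : GL (Fin 2) F) : Matrix (Fin 2) (Fin 2) F) 1 1]

theorem det_inv_mul (N : GL (Fin 2) F) :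
    (N : Matrix (Fin 2) (Fin 2) F).det * ((N⁻¹ : GL (Fin 2) F) : Matrix (Fin 2) (Fin 2) F).det = 1 := by
  rw [← Matrix.det_mul, ← Units.val_mul, mul_inv_cancel, Units.val_one, Matrix.det_one]

/-- The Levi embedding. -/
def levi : GL (Fin 2) F →* Matrix.SpecialLinearGroup (Fin 3) F where
  toFun N := ⟨leviMat N, by
    have h := det_inv_mul N
    rw [Matrix.det_fin_two ((N⁻¹ : GL (Fin 2) F) : Matrix (Fin 2) (Fin 2) F)] at h
    simp [leviMat, Matrix.det_fin_three, -Matrix.coe_units_inv]; linear_combination h⟩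
  map_one' := by
    refine Subtype.ext ?_
    show leviMat 1 = 1
    ext i j; fin_cases i <;> fin_cases j <;> simp [leviMat]
  map_mul' N M := by
    refine Subtype.ext ?_
    show leviMat (N * M) = leviMat N * leviMat M
    ext i j
    fin_cases i <;> fin_cases j <;>
      simp [leviMat, mul_inv_rev, Matrix.mul_apply, Fin.sum_univ_two, Fin.sum_univ_three] <;> ring

/-- The Levi elements of `G₂`. -/
noncomputable def lg : GL (Fin 2) F →* G₂ := (slG (F := F)).comp levi

theorem adjT_levi (N : GL (Fin 2) F) :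
    ((levi N : Matrix.SpecialLinearGroup (Fin 3) F) : Matrix (Fin 3) (Fin 3) F).adjugateᵀ = (leviMat N⁻¹)ᵀ := by
  rw [← Matrix.SpecialLinearGroup.coe_inv, ← map_inv]
  rfl

theorem lg_oct (N : GL (Fin 2) F) (a b : F) (A B : Fin 3 → F) :
    ap (lg N) (oct a A B b) = oct a (leviMat N *ᵥ A) ((leviMat N⁻¹)ᵀ *ᵥ B) b := by
  show ap (slG (levi N)) _ = _
  rw [ap_slG_oct, adjT_levi]
  rfl

theorem lg_uv0 (N : GL (Fin 2) F) : ap (lg N) (uv 0) = (N : Matrix (Fin 2) (Fin 2) F).det • uv 0 := by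
  rw [uv, lg_oct, oct_smul]
  congr 1 <;> first | (simp; done) | (funext i; fin_cases i <;> simp [leviMat, Matrix.mulVec, dotProduct, Fin.sum_univ_three])

theorem lg_dv0 (N : GL (Fin 2) F) :
    ap (lg N) (dv 0) = ((N⁻¹ : GL (Fin 2) F) : Matrix (Fin 2) (Fin 2) F).det • dv 0 := by
  rw [dv, lg_oct, oct_smul]
  congr 1 <;> first | (simp; done) | (funext i; fin_cases i <;> simp [leviMat, Matrix.mulVec, dotProduct, Fin.sum_univ_three])

theorem lg_dv (N : GL (Fin 2) F) (j : Fin 2) :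
    ap (lg N) (![dv 1, dv 2] j) =
      (N : Matrix (Fin 2) (Fin 2) F) 0 j • ![dv 1, dv 2] 0 + (N : Matrix (Fin 2) (Fin 2) F) 1 j • ![dv 1, dv 2] 1 := by
  fin_cases j <;> simp only [Fin.zero_eta, Fin.mk_one, Matrix.cons_val_zero, Matrix.cons_val_one, dv, lg_oct,
      oct_smul, oct_add] <;>
    congr 1 <;> first | (simp; done) | (funext i; fin_cases i <;> simp [leviMat, Matrix.mulVec, dotProduct, Fin.sum_univ_three])

theorem lg_uv (N : GL (Fin 2) F) (j : Fin 2) :
    ap (lg N) (![uv 1, uv 2] j) =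
      ((N⁻¹ : GL (Fin 2) F) : Matrix (Fin 2) (Fin 2) F)ᵀ 0 j • ![uv 1, uv 2] 0 +
        ((N⁻¹ : GL (Fin 2) F) : Matrix (Fin 2) (Fin 2) F)ᵀ 1 j • ![uv 1, uv 2] 1 := by
  fin_cases j <;> simp only [Fin.zero_eta, Fin.mk_one, Matrix.cons_val_zero, Matrix.cons_val_one, uv, lg_oct,
      oct_smul, oct_add] <;>
    congr 1 <;> first | (simp; done) | (funext i; fin_cases i <;> simp [leviMat, Matrix.mulVec, dotProduct, Fin.sum_univ_three])

theorem lg_conj_Qp (N : GL (Fin 2) F) {w : G₂} (hw : w ∈ Qp) : lg N * w * (lg N)⁻¹ ∈ Qp :=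
  conj_mem (lg_uv0 N) (left_ne_zero_of_mul_eq_one (det_inv_mul N))
    (fun j => by rw [← map_inv]; exact lg_dv N⁻¹ j) hw

theorem lg_conj_Qm (N : GL (Fin 2) F) {w : G₂} (hw : w ∈ Qm) : lg N * w * (lg N)⁻¹ ∈ Qm :=
  conj_mem (lg_dv0 N) (right_ne_zero_of_mul_eq_one (det_inv_mul N))
    (fun j => by rw [← map_inv]; exact lg_uv N⁻¹ j) hw

/-- The transitive element of `Qp`. -/
theorem exists_Qp (f : V8) (ht : tr f = 0) (hn : nm f = 0) (h0 : dn f 0 = 1) :
    ∃ k ∈ (Qp : Subgroup G₂), ap k (dv 0) = f := by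
  let s : F := -(f 0)
  let c : Fin 3 → F := ![0, -(up f 2), up f 1]
  let p1 : F := dn f 1 + 2 * s * c 1
  let p2 : F := dn f 2 + 2 * s * c 2
  let P : Matrix.SpecialLinearGroup (Fin 3) F := ⟨!![1, -p1, -p2; 0, 1, 0; 0, 0, 1], by simp [Matrix.det_fin_three]⟩
  have hadj : ((P : Matrix (Fin 3) (Fin 3) F).adjugateᵀ) = !![1, 0, 0; p1, 1, 0; p2, 0, 1] := by
    show (!![1, -p1, -p2; 0, 1, 0; 0, 0, 1] : Matrix (Fin 3) (Fin 3) F).adjugateᵀ = _
    rw [Matrix.adjugate_fin_three_of]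
    ext i j; fin_cases i <;> fin_cases j <;> simp
  refine ⟨slG P * psiG c * phiG ![s, 0, 0], mul_mem (mul_mem ?_ ?_) ?_, ?_⟩
  · refine ⟨?_, fun j => ?_⟩
    · rw [uv, ap_slG_oct, hadj]
      congr 1 <;> first | (simp; done) | (funext i; fin_cases i <;> simp [P, Matrix.mulVec, dotProduct, Fin.sum_univ_three])
    · refine ⟨0, ?_⟩
      fin_cases j <;> simp only [Fin.zero_eta, Fin.mk_one, Matrix.cons_val_zero, Matrix.cons_val_one, dv,
          ap_slG_oct, hadj, zero_smul, add_zero] <;>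
        congr 1 <;> first | (simp; done) | (funext i; fin_cases i <;> simp [P, Matrix.mulVec, dotProduct, Fin.sum_univ_three])
  · refine ⟨?_, fun j => ?_⟩
    · rw [uv, ap_psiG, psi_oct]
      congr 1 <;> first | (simp [c, dot3]; done) | (funext i; fin_cases i <;> simp [c, dot3, cross3])
    · refine ⟨![-c 2, c 1] j, ?_⟩
      fin_cases j <;> simp only [Fin.zero_eta, Fin.mk_one, Matrix.cons_val_zero, Matrix.cons_val_one, dv, uv,
          ap_psiG, psi_oct, oct_smul, oct_add] <;>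
        congr 1 <;> first | (simp [c, dot3]; done) | (funext i; fin_cases i <;> simp [c, dot3, cross3])
  · refine ⟨?_, fun j => ⟨0, ?_⟩⟩
    · rw [uv, ap_phiG, phi_oct]
      congr 1 <;> first | (simp [dot3]; done) | (funext i; fin_cases i <;> simp [dot3, cross3])
    · fin_cases j <;> simp only [Fin.zero_eta, Fin.mk_one, Matrix.cons_val_zero, Matrix.cons_val_one, dv,
          ap_phiG, phi_oct, zero_smul, add_zero] <;>
        congr 1 <;> first | (simp [dot3]; done) | (funext i; fin_cases i <;> simp [dot3, cross3])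
  · have h7 : f 7 = -(f 0) := by have : f 0 + f 7 = 0 := ht; linear_combination this
    have hn' : f 0 * f 7 - dot3 (up f) (dn f) = 0 := hn
    simp [dot3, h0, h7] at hn'
    rw [ap_mul_apply, ap_mul_apply, dv, ap_phiG, phi_oct, ap_psiG, psi_oct, ap_slG_oct, hadj]
    conv_rhs => rw [← oct_eta f]
    congr 1
    · simp [c, s, dot3]
    · funext i; fin_cases i <;>
        simp [P, c, s, p1, p2, dot3, cross3, Matrix.vecHead, Matrix.vecTail, Matrix.mulVec, dotProduct, Fin.sum_univ_three] <;>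
        linear_combination hn'
    · funext i; fin_cases i <;>
        simp [P, c, s, p1, p2, dot3, cross3, h0, Matrix.vecHead, Matrix.vecTail, Matrix.mulVec, dotProduct, Fin.sum_univ_three] <;> ring
    · simp [c, s, dot3, h7]

/-- The transitive element of `Qm`. -/
theorem exists_Qm (x : V8) (ht : tr x = 0) (hn : nm x = 0) (h0 : up x 0 = 1) :
    ∃ k ∈ (Qm : Subgroup G₂), ap k (uv 0) = x := by
  let s : F := -(x 0)
  let c : Fin 3 → F := ![0, -(dn x 2), dn x 1]
  let p1 : F := up x 1 + 2 * s * c 1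
  let p2 : F := up x 2 + 2 * s * c 2
  let P : Matrix.SpecialLinearGroup (Fin 3) F := ⟨!![1, 0, 0; p1, 1, 0; p2, 0, 1], by simp [Matrix.det_fin_three]⟩
  have hadj : ((P : Matrix (Fin 3) (Fin 3) F).adjugateᵀ) = !![1, -p1, -p2; 0, 1, 0; 0, 0, 1] := by
    show (!![1, 0, 0; p1, 1, 0; p2, 0, 1] : Matrix (Fin 3) (Fin 3) F).adjugateᵀ = _
    rw [Matrix.adjugate_fin_three_of]
    ext i j; fin_cases i <;> fin_cases j <;> simp
  refine ⟨slG P * phiG c * psiG ![s, 0, 0], mul_mem (mul_mem ?_ ?_) ?_, ?_⟩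
  · refine ⟨?_, fun j => ?_⟩
    · rw [dv, ap_slG_oct, hadj]
      congr 1 <;> first | (simp; done) | (funext i; fin_cases i <;> simp [P, Matrix.mulVec, dotProduct, Fin.sum_univ_three])
    · refine ⟨0, ?_⟩
      fin_cases j <;> simp only [Fin.zero_eta, Fin.mk_one, Matrix.cons_val_zero, Matrix.cons_val_one, uv,
          ap_slG_oct, hadj, zero_smul, add_zero] <;>
        congr 1 <;> first | (simp; done) | (funext i; fin_cases i <;> simp [P, Matrix.mulVec, dotProduct, Fin.sum_univ_three])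
  · refine ⟨?_, fun j => ?_⟩
    · rw [dv, ap_phiG, phi_oct]
      congr 1 <;> first | (simp [c, dot3]; done) | (funext i; fin_cases i <;> simp [c, dot3, cross3])
    · refine ⟨![-c 2, c 1] j, ?_⟩
      fin_cases j <;> simp only [Fin.zero_eta, Fin.mk_one, Matrix.cons_val_zero, Matrix.cons_val_one, dv, uv,
          ap_phiG, phi_oct, oct_smul, oct_add] <;>
        congr 1 <;> first | (simp [c, dot3]; done) | (funext i; fin_cases i <;> simp [c, dot3, cross3])
  · refine ⟨?_, fun j => ⟨0, ?_⟩⟩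
    · rw [dv, ap_psiG, psi_oct]
      congr 1 <;> first | (simp [dot3]; done) | (funext i; fin_cases i <;> simp [dot3, cross3])
    · fin_cases j <;> simp only [Fin.zero_eta, Fin.mk_one, Matrix.cons_val_zero, Matrix.cons_val_one, uv,
          ap_psiG, psi_oct, zero_smul, add_zero] <;>
        congr 1 <;> first | (simp [dot3]; done) | (funext i; fin_cases i <;> simp [dot3, cross3])
  · have h7 : x 7 = -(x 0) := by have : x 0 + x 7 = 0 := ht; linear_combination this
    have hn' : x 0 * x 7 - dot3 (up x) (dn x) = 0 := hn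
    simp [dot3, h0, h7] at hn'
    rw [ap_mul_apply, ap_mul_apply, uv, ap_psiG, psi_oct, ap_phiG, phi_oct, ap_slG_oct, hadj]
    conv_rhs => rw [← oct_eta x]
    congr 1
    · simp [c, s, dot3]
    · funext i; fin_cases i <;>
        simp [P, c, s, p1, p2, dot3, cross3, h0, Matrix.vecHead, Matrix.vecTail, Matrix.mulVec, dotProduct, Fin.sum_univ_three] <;> ring
    · funext i; fin_cases i <;>
        simp [P, c, s, p1, p2, dot3, cross3, Matrix.vecHead, Matrix.vecTail, Matrix.mulVec, dotProduct, Fin.sum_univ_three] <;>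
        linear_combination hn'
    · simp [c, s, dot3, h7]

/-- Trace-zero vectors killed by `u₀` on the left. -/
theorem ann_uv0 {y : V8} (ht : tr y = 0) (h : zornMul (uv 0) y = 0) :
    y = oct 0 ![up y 0, 0, 0] ![0, dn y 1, dn y 2] 0 := by
  have h7 : y 7 = -(y 0) := by have : y 0 + y 7 = 0 := ht; linear_combination this
  rw [← oct_eta y, uv, zorn_oct, ← oct_zero] at h
  obtain ⟨e0, e1, e2, -⟩ := oct_inj h
  have a1 := congrFun e1 0; have b1 := congrFun e2 1; have b2 := congrFun e2 2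
  simp [dot3, cross3] at e0 a1 b1 b2
  rw [h7] at a1
  conv_lhs => rw [← oct_eta y]
  have hy : y 0 = 0 := by simpa using a1
  congr 1
  · funext i; fin_cases i <;> simp <;> grind
  · funext i; fin_cases i <;> simp <;> grind
  · rw [h7, hy, neg_zero]

/-- **The decomposition.** -/
theorem decomp {g : G₂} {δ : F} (hδ : δ ≠ 0) (hg : bil (dv 0) (ap g (uv 0)) = -δ) :
    ∃ v ∈ (Qm : Subgroup G₂), ∃ u ∈ (Qp : Subgroup G₂), ∃ N : GL (Fin 2) F, g = v * lg N * u ∧
      (N : Matrix (Fin 2) (Fin 2) F).det = δ ∧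
      ∀ i j, (N : Matrix (Fin 2) (Fin 2) F) i j = -(bil (![uv 1, uv 2] i) (ap g (![dv 1, dv 2] j)) +
        bil (![uv 1, uv 2] i) (ap g (uv 0)) * bil (dv 0) (ap g (![dv 1, dv 2] j)) / δ) := by
  set x := δ⁻¹ • ap g (uv 0) with hx
  have ht : tr x = 0 := by rw [hx, map_smul, tr_ap, uv, tr_oct]; simp
  have hn : nm x = 0 := by rw [hx, nm_smul, nm_ap, uv, nm_oct]; simp [dot3]
  have h0 : up x 0 = 1 := by
    have : bil (dv 0) x = -1 := by rw [hx, map_smul, hg, smul_eq_mul]; field_simp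
    rw [← oct_eta x, dv, bil_oct] at this
    simpa [dot3] using this
  obtain ⟨v, hv, hvx⟩ := exists_Qm x ht hn h0
  set h := v⁻¹ * g with hh
  have he : ap h (uv 0) = δ • uv 0 := by
    rw [hh, ap_mul_apply, show ap g (uv 0) = δ • x by rw [hx, smul_smul, mul_inv_cancel₀ hδ, one_smul], map_smul,
      ← hvx, ap_inv_apply]
  have hker : ∀ j : Fin 2, ∃ n a b : F, ap h (![dv 1, dv 2] j) = oct 0 ![n, 0, 0] ![0, a, b] 0 := by
    intro j
    refine ⟨_, _, _, ann_uv0 ?_ ?_⟩
    · rw [tr_ap]; fin_cases j <;> simp [dv, tr_oct]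
    · have e : zornMul (uv 0) (![dv 1, dv 2] j) = (0 : V8) := by
        rw [← oct_zero]
        fin_cases j <;> simp only [Fin.zero_eta, Fin.mk_one, Matrix.cons_val_zero, Matrix.cons_val_one, dv, uv,
            zorn_oct] <;>
          congr 1 <;> first | (simp [dot3]; done) | (funext i; fin_cases i <;> simp [dot3, cross3])
      have := congrArg (ap h) e
      rw [ap_zorn, he, map_zero, zorn_smul_left, smul_eq_zero] at this
      exact this.resolve_left hδ
  choose n a b hab using hker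
  let N0 : Matrix (Fin 2) (Fin 2) F := !![a 0, a 1; b 0, b 1]
  have hdet : N0.det = δ := by
    have e : zornMul (dv (F := F) 1) (dv (F := F) 2) = -(uv (F := F) (0 : Fin 3)) := by
      rw [dv, dv, zorn_oct, uv]
      funext i; fin_cases i <;> simp [oct, dot3, cross3]
    have := congrArg (ap h) e
    rw [ap_zorn, map_neg, he] at this
    have e0 := hab 0; have e1 := hab 1
    simp only [Matrix.cons_val_zero, Matrix.cons_val_one] at e0 e1
    rw [e0, e1, zorn_oct] at this
    have := congrFun this 1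
    simp [oct, dot3, cross3, uv] at this
    simp [N0, Matrix.det_fin_two]
    linear_combination -this
  let N : GL (Fin 2) F := Matrix.GeneralLinearGroup.mkOfDetNeZero N0 (by rw [hdet]; exact hδ)
  have hu : (lg N)⁻¹ * h ∈ (Qp : Subgroup G₂) := by
    refine ⟨?_, fun j => ⟨n j / δ, ?_⟩⟩
    · rw [ap_mul_apply, he, map_smul, ← map_inv, lg_uv0, smul_smul]
      rw [show δ * ((N⁻¹ : GL (Fin 2) F) : Matrix (Fin 2) (Fin 2) F).det = 1 by
        rw [← hdet]; exact det_inv_mul N, one_smul]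
    · have e : ap (lg N) (![dv 1, dv 2] j + (n j / δ) • uv 0) = ap h (![dv 1, dv 2] j) := by
        rw [map_add, map_smul, lg_dv, lg_uv0, hab, show (N : Matrix (Fin 2) (Fin 2) F) = N0 from rfl, hdet,
          smul_smul, div_mul_cancel₀ _ hδ]
        fin_cases j <;> funext i <;> fin_cases i <;> simp [dv, uv, oct, N0]
      rw [ap_mul_apply, ← e, ap_inv_apply]
  refine ⟨v, hv, _, hu, N, by rw [hh]; group, hdet, fun i j => ?_⟩
  -- the coefficient
  have hvf : ap v (dv 0) = dv 0 := hv.1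
  obtain ⟨k, hk⟩ := hv.2 i
  have pull : ∀ X Y : V8, bil X (ap g Y) = bil (ap v⁻¹ X) (ap h Y) := fun X Y => by
    rw [hh, ap_mul_apply, bil_ap]
  have hvi : ap v⁻¹ (![uv 1, uv 2] i) = ![uv 1, uv 2] i - k • dv 0 := by
    have := congrArg (ap v⁻¹) hk
    have hd : ap v⁻¹ (dv 0) = dv 0 := by conv_lhs => rw [← hvf, ap_inv_apply]
    rw [ap_inv_apply, map_add, map_smul, hd] at this
    rw [eq_sub_iff_add_eq]; exact this.symm
  have hvd : ap v⁻¹ (dv 0) = dv 0 := by conv_lhs => rw [← hvf, ap_inv_apply]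
  rw [pull, pull, pull, hvi, hvd, he, hab, show (N : Matrix (Fin 2) (Fin 2) F) = N0 from rfl]
  rw [bil_comm (![uv 1, uv 2] i - k • dv 0), bil_comm (![uv 1, uv 2] i - k • dv 0)]
  simp only [map_smul, map_sub, smul_eq_mul, bil_smul_left]
  fin_cases i <;> fin_cases j <;>
    simp [dv, uv, bil_oct, N0, dot3] <;> field_simp <;> ring

end Cfsg.Agent.H14.GTwoSquare
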